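import Mathlib
import Groth.Prelude.Def_CAlg

/-! Characterisations of depth at least one and at least two. -/

namespace Groth.Agent.CAlgBasics

open RingTheory.Sequence IsLocalRing
open scoped Pointwise

universe u v w

variable {R : Type u} [CommRing R]

/-- No nonzero element is killed by the maximal ideal. -/
def SocleZero (R : Type u) [CommRing R] [IsLocalRing R] (M : Type v) [AddCommGroup M] [Module R M] : Prop :=
  ∀ x : M, (∀ a ∈ maximalIdeal R, a • x = 0) → x = 0

variable [IsLocalRing R] {M : Type v} [AddCommGroup M] [Module R M]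

theorem SocleZero.eq_zero_of_pow {x : M} (h : SocleZero R M) (k : ℕ)
    (hk : ∀ a ∈ (maximalIdeal R) ^ k, a • x = 0) : x = 0 := by
  induction k generalizing x with
  | zero => simpa using hk 1 (by simp)
  | succ k ih =>
    refine h x fun b hb => ih fun a ha => ?_
    rw [smul_smul]
    exact hk _ (by rw [pow_succ]; exact Ideal.mul_mem_mul ha hb)

/-- If some power of the maximal ideal kills `x`, detected via the primes. -/
theorem SocleZero.eq_zero_of_forall_prime [IsNoetherianRing R] {x : M} (h : SocleZero R M)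
    (hx : ∀ Q : Ideal R, Q.IsPrime → Q ≠ maximalIdeal R → ∃ a, a ∉ Q ∧ a • x = 0) : x = 0 := by
  by_contra hne
  let A : Ideal R :=
    { carrier := {a | a • x = 0}
      add_mem' := fun {a b} ha hb => by simp_all [add_smul]
      zero_mem' := by simp
      smul_mem' := fun c a ha => by simp_all [mul_smul] }
  have hA : maximalIdeal R ≤ A.radical := by
    rw [Ideal.radical_eq_sInf]
    refine le_sInf fun Q hQ => ?_
    rcases eq_or_ne Q (maximalIdeal R) with rfl | hQm
    · exact le_rfl
    · obtain ⟨a, ha, ha'⟩ := hx Q hQ.2 hQm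
      exact absurd (hQ.1 ha') ha
  obtain ⟨k, hk⟩ := Ideal.exists_pow_le_of_le_radical_of_fg hA (IsNoetherian.noetherian _)
  exact hne (h.eq_zero_of_pow k fun a ha => hk ha)

/-- Socle zero gives a regular element in the maximal ideal. -/
theorem SocleZero.exists_isSMulRegular [IsNoetherianRing R] [Module.Finite R M] [Nontrivial M]
    (h : SocleZero R M) : ∃ r ∈ maximalIdeal R, IsSMulRegular M r := by
  by_contra hc
  push Not at hc
  have hsub : (maximalIdeal R : Set R) ⊆ ⋃ p ∈ associatedPrimes R M, (p : Set R) := by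
    rw [biUnion_associatedPrimes_eq_compl_regular R M]
    exact fun r hr => hc r hr
  have hfin := associatedPrimes.finite R M
  obtain ⟨p, hp, hle⟩ := (Ideal.subset_union_prime_finite hfin ⊥ ⊥
    (fun p hp _ _ => hp.isPrime)).mp hsub
  have hpm : p = maximalIdeal R := le_antisymm (le_maximalIdeal hp.isPrime.ne_top) hle
  obtain ⟨hprime, x, hx⟩ := (isAssociatedPrime_iff_exists_injective_linearMap p M).mp hp
  have : (Ideal.Quotient.mk p 1) ≠ 0 := by
    rw [map_one]
    haveI := Ideal.Quotient.nontrivial_iff.mpr hprime.ne_top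
    exact one_ne_zero
  apply this
  apply hx
  rw [map_zero]
  refine h _ fun a ha => ?_
  rw [← map_smul]
  have : a • Ideal.Quotient.mk p 1 = 0 := by
    change Ideal.Quotient.mk p (a • (1 : R)) = 0
    rw [smul_eq_mul, mul_one, Ideal.Quotient.eq_zero_iff_mem, hpm]; exact ha
  rw [this, map_zero]

theorem socleZero_of_isSMulRegular {r : R} (hr : r ∈ maximalIdeal R) (h : IsSMulRegular M r) :
    SocleZero R M :=
  fun _ hx => h.right_eq_zero_of_smul (hx r hr)

theorem maximalIdeal_smul_top_ne_top [Module.Finite R M] [Nontrivial M] :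
    maximalIdeal R • (⊤ : Submodule R M) ≠ ⊤ := fun h =>
  top_ne_bot <| Submodule.eq_bot_of_le_smul_of_le_jacobson_bot (maximalIdeal R) (⊤ : Submodule R M)
    Module.Finite.fg_top h.ge (IsLocalRing.jacobson_eq_maximalIdeal ⊥ bot_ne_top).ge

theorem depth_eq_top [Subsingleton M] : LocCoh.depth R M = ⊤ := by
  simp [LocCoh.depth, LocCoh.idealDepth, Subsingleton.elim (_ : Submodule R M) ⊤]

theorem natCast_le_depth_iff [Module.Finite R M] [Nontrivial M] (n : ℕ) :
    (n : ℕ∞) ≤ LocCoh.depth R M ↔
      ∃ rs : List R, rs.length = n ∧ IsWeaklyRegular M rs ∧ ∀ r ∈ rs, r ∈ maximalIdeal R := by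
  rw [LocCoh.depth, LocCoh.idealDepth, if_neg maximalIdeal_smul_top_ne_top]
  constructor
  · intro h
    have : ∃ rs : List R, (IsWeaklyRegular M rs ∧ ∀ r ∈ rs, r ∈ maximalIdeal R) ∧ n ≤ rs.length := by
      by_contra hc
      push Not at hc
      rcases Nat.eq_zero_or_pos n with rfl | hn
      · exact absurd (hc [] ⟨IsWeaklyRegular.nil R M, by simp⟩) (by simp)
      have h2 : (n : ℕ∞) ≤ ((n - 1 : ℕ) : ℕ∞) := h.trans <| iSup₂_le fun rs hrs =>
        Nat.cast_le.mpr (Nat.le_sub_one_of_lt (hc rs hrs))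
      exact absurd (Nat.cast_le.mp h2) (by omega)
    obtain ⟨rs, ⟨hreg, hmem⟩, hn⟩ := this
    refine ⟨rs.take n, by simp [hn], ⟨fun i hi => ?_⟩, fun r hr => hmem r (List.mem_of_mem_take hr)⟩
    have hi' : i < rs.length := lt_of_lt_of_le (by simpa [hn] using hi) hn
    have hin : i < n := by simpa [hn] using hi
    have := hreg.regular_mod_prev i hi'
    have htt : (rs.take n).take i = rs.take i := by rw [List.take_take, min_eq_left hin.le]
    rw [htt]
    simpa using this
  · rintro ⟨rs, rfl, h⟩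
    exact le_iSup₂_of_le rs h le_rfl

theorem one_le_depth_iff [IsNoetherianRing R] [Module.Finite R M] :
    1 ≤ LocCoh.depth R M ↔ SocleZero R M := by
  rcases subsingleton_or_nontrivial M with hM | hM
  · simp [depth_eq_top, SocleZero, Subsingleton.elim _ (0 : M)]
  rw [← Nat.cast_one, natCast_le_depth_iff]
  constructor
  · rintro ⟨rs, hl, h, hm⟩
    obtain ⟨r, rfl⟩ := List.length_eq_one_iff.mp hl
    exact socleZero_of_isSMulRegular (hm r (by simp)) ((isWeaklyRegular_cons_iff M r []).mp h).1
  · intro h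
    obtain ⟨r, hr, hreg⟩ := h.exists_isSMulRegular
    exact ⟨[r], rfl, (isWeaklyRegular_cons_iff M r []).mpr ⟨hreg, IsWeaklyRegular.nil _ _⟩, by simpa⟩

/-- The socle of `M/rM` vanishes. -/
def SocleZeroMod (R : Type u) [CommRing R] [IsLocalRing R] (M : Type v) [AddCommGroup M] [Module R M]
    (r : R) : Prop :=
  ∀ z : M, (∀ a ∈ maximalIdeal R, ∃ w : M, a • z = r • w) → ∃ w : M, z = r • w

theorem socleZeroMod_iff {r : R} : SocleZeroMod R M r ↔ SocleZero R (QuotSMulTop r M) := by
  have hmem : ∀ z : M, z ∈ r • (⊤ : Submodule R M) ↔ ∃ w : M, z = r • w := fun z => by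
    simp [Submodule.mem_smul_pointwise_iff_exists, eq_comm]
  constructor
  · intro h x hx
    obtain ⟨z, rfl⟩ := Submodule.Quotient.mk_surjective _ x
    rw [Submodule.Quotient.mk_eq_zero, hmem]
    refine h z fun a ha => (hmem _).mp ?_
    rw [← Submodule.Quotient.mk_eq_zero, Submodule.Quotient.mk_smul]
    exact hx a ha
  · intro h z hz
    rw [← hmem, ← Submodule.Quotient.mk_eq_zero]
    refine h _ fun a ha => ?_
    rw [← Submodule.Quotient.mk_smul, Submodule.Quotient.mk_eq_zero, hmem]
    exact hz a ha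

/-- Independence of the regular element. -/
theorem socleZeroMod_of_socleZeroMod {r s : R} (hr : IsSMulRegular M r) (hs : IsSMulRegular M s)
    (hsm : s ∈ maximalIdeal R) (h : SocleZeroMod R M s) : SocleZeroMod R M r := by
  intro z hz
  obtain ⟨w, hw⟩ := hz s hsm
  have hwa : ∀ a ∈ maximalIdeal R, ∃ v : M, a • w = s • v := fun a ha => by
    obtain ⟨v, hv⟩ := hz a ha
    refine ⟨v, hr ?_⟩
    change r • (a • w) = r • (s • v)
    rw [smul_comm r a, ← hw, smul_comm a s, hv, smul_comm]
  obtain ⟨v, rfl⟩ := h w hwa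
  exact ⟨v, hs (by simp only; rw [hw, smul_comm])⟩

theorem two_le_depth_iff [IsNoetherianRing R] [Module.Finite R M] :
    2 ≤ LocCoh.depth R M ↔
      SocleZero R M ∧ ∀ r ∈ maximalIdeal R, IsSMulRegular M r → SocleZeroMod R M r := by
  rcases subsingleton_or_nontrivial M with hM | hM
  · simp [depth_eq_top, SocleZero, SocleZeroMod, Subsingleton.elim _ (0 : M)]
  rw [← Nat.cast_ofNat, natCast_le_depth_iff]
  constructor
  · rintro ⟨rs, hl, h, hm⟩
    obtain ⟨s, t, rfl⟩ := List.length_eq_two.mp hl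
    rw [isWeaklyRegular_cons_iff, isWeaklyRegular_cons_iff] at h
    have hs : s ∈ maximalIdeal R := hm s (by simp)
    refine ⟨socleZero_of_isSMulRegular hs h.1, fun r hr hreg => ?_⟩
    exact socleZeroMod_of_socleZeroMod hreg h.1 hs
      (socleZeroMod_iff.mpr (socleZero_of_isSMulRegular (hm t (by simp)) h.2.1))
  · rintro ⟨h1, h2⟩
    obtain ⟨r, hr, hreg⟩ := h1.exists_isSMulRegular
    have hq := socleZeroMod_iff.mp (h2 r hr hreg)
    haveI : Nontrivial (QuotSMulTop r M) := by
      refine Submodule.Quotient.nontrivial_iff.mpr fun htop => maximalIdeal_smul_top_ne_top (R := R) (M := M) ?_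
      refine eq_top_iff.mpr (htop.ge.trans ?_)
      rw [← Submodule.ideal_span_singleton_smul]
      exact Submodule.smul_mono_left ((Ideal.span_singleton_le_iff_mem _).mpr hr)
    obtain ⟨t, ht, htreg⟩ := hq.exists_isSMulRegular
    exact ⟨[r, t], rfl, (isWeaklyRegular_cons_iff M r [t]).mpr ⟨hreg,
      (isWeaklyRegular_cons_iff _ t []).mpr ⟨htreg, IsWeaklyRegular.nil _ _⟩⟩, fun a ha => by
      rcases List.mem_pair.mp ha with rfl | rfl
      exacts [hr, ht]⟩

theorem one_le_depth_linearMap [IsNoetherianRing R] {N : Type w} [AddCommGroup N] [Module R N]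
    [Module.Finite R N] [Module.Finite R M] (h : 1 ≤ LocCoh.depth R N) :
    1 ≤ LocCoh.depth R (M →ₗ[R] N) := by
  rw [one_le_depth_iff] at h ⊢
  exact fun φ hφ => LinearMap.ext fun x => h _ fun a ha => LinearMap.congr_fun (hφ a ha) x

theorem two_le_depth_linearMap [IsNoetherianRing R] {N : Type w} [AddCommGroup N] [Module R N]
    [Module.Finite R N] [Module.Finite R M] (h : 2 ≤ LocCoh.depth R N) :
    2 ≤ LocCoh.depth R (M →ₗ[R] N) := by
  rcases subsingleton_or_nontrivial N with hN | hN
  · haveI : Subsingleton (M →ₗ[R] N) := ⟨fun a b => LinearMap.ext fun _ => Subsingleton.elim _ _⟩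
    rw [depth_eq_top]; exact le_top
  rw [two_le_depth_iff] at h ⊢
  obtain ⟨h1, h2⟩ := h
  obtain ⟨s, hs, hsreg⟩ := h1.exists_isSMulRegular
  have hsH : IsSMulRegular (M →ₗ[R] N) s := fun a b hab => LinearMap.ext fun x => hsreg (LinearMap.congr_fun hab x)
  refine ⟨socleZero_of_isSMulRegular hs hsH, fun r hr hreg => socleZeroMod_of_socleZeroMod hreg hsH hs ?_⟩
  intro φ hφ
  have hdiv : ∀ x, ∃ w, φ x = s • w := fun x => h2 s hs hsreg (φ x) fun a ha => by
    obtain ⟨ψ, hψ⟩ := hφ a ha
    exact ⟨ψ x, LinearMap.congr_fun hψ x⟩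
  choose ψ hψ using hdiv
  exact ⟨{ toFun := ψ
           map_add' := fun a b => hsreg (by simp only [smul_add, ← hψ, map_add])
           map_smul' := fun c a => hsreg (by simp only [RingHom.id_apply, smul_comm s c, ← hψ, map_smul]) },
    LinearMap.ext hψ⟩

end Groth.Agent.CAlgBasics
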