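import Mathlib

/-! Flatness in short exact sequences and related lemmas. -/

namespace Groth.Agent.CAlgBasics

open TensorProduct

variable {R : Type*} [CommRing R] {M' M M'' : Type*} [AddCommGroup M'] [Module R M'] [AddCommGroup M]
  [Module R M] [AddCommGroup M''] [Module R M''] {f : M' →ₗ[R] M} {g : M →ₗ[R] M''}

theorem rTensor_injective_of_flat_quotient_aux {N F : Type*} [AddCommGroup N] [Module R N]
    [AddCommGroup F] [Module R F] [Module.Flat R F] (π : F →ₗ[R] N) (hπ : Function.Surjective π)
    (hf : Function.Injective f) (hfg : Function.Exact f g)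
    (hg : Function.Surjective g) [Module.Flat R M''] :
    Function.Injective (f.rTensor N) := by
  let K := LinearMap.ker π
  have hK : Function.Exact K.subtype π := LinearMap.exact_subtype_ker_map π
  rw [injective_iff_map_eq_zero]
  intro t ht
  obtain ⟨t', rfl⟩ := LinearMap.lTensor_surjective M' hπ t
  have h1 : π.lTensor M (f.rTensor _ t') = 0 := by
    rw [← ht, ← LinearMap.comp_apply, ← LinearMap.comp_apply,
      LinearMap.lTensor_comp_rTensor, LinearMap.rTensor_comp_lTensor]
  obtain ⟨s, hs⟩ := (_root_.lTensor_exact M hK hπ _).mp h1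
  have h2 : g.rTensor K s = 0 := by
    apply Module.Flat.lTensor_preserves_injective_linearMap (M := M'') K.subtype K.injective_subtype
    rw [map_zero, ← LinearMap.comp_apply, LinearMap.lTensor_comp_rTensor, ← LinearMap.rTensor_comp_lTensor,
      LinearMap.comp_apply, hs, ← LinearMap.comp_apply, ← LinearMap.rTensor_comp,
      LinearMap.exact_iff.mp hfg |> fun _ => hfg.linearMap_comp_eq_zero]
    simp
  obtain ⟨r, hr⟩ := (_root_.rTensor_exact K hfg hg _).mp h2
  have h3 : f.rTensor F (t' - K.subtype.lTensor M' r) = 0 := by
    rw [map_sub, ← LinearMap.comp_apply (f.rTensor _) (K.subtype.lTensor M'), LinearMap.rTensor_comp_lTensor,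
      ← LinearMap.lTensor_comp_rTensor, LinearMap.comp_apply, hr, hs, sub_self]
  have h4 : t' = K.subtype.lTensor M' r := by
    have := Module.Flat.rTensor_preserves_injective_linearMap (M := F) f hf
    exact sub_eq_zero.mp ((map_eq_zero_iff _ this).mp h3)
  rw [h4, ← LinearMap.comp_apply, ← LinearMap.lTensor_comp, hK.linearMap_comp_eq_zero]
  simp

/-- If the cokernel of an injective map is flat, the map stays injective after tensoring. -/
theorem rTensor_injective_of_flat_quotient (hf : Function.Injective f) (hfg : Function.Exact f g)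
    (hg : Function.Surjective g) [Module.Flat R M''] (N : Type*) [AddCommGroup N] [Module R N] :
    Function.Injective (f.rTensor N) := by
  classical
  exact rTensor_injective_of_flat_quotient_aux (Finsupp.linearCombination R (id : N → N))
    (Finsupp.linearCombination_id_surjective R N) hf hfg hg

/-- An extension of flat modules is flat. -/
theorem flat_of_exact (hf : Function.Injective f) (hfg : Function.Exact f g)
    (hg : Function.Surjective g) [Module.Flat R M'] [Module.Flat R M''] : Module.Flat R M := by
  rw [Module.Flat.iff_lTensor_preserves_injective_linearMap]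
  intro A B _ _ _ _ φ hφ
  rw [injective_iff_map_eq_zero]
  intro x hx
  have h1 : g.rTensor A x = 0 := by
    apply Module.Flat.lTensor_preserves_injective_linearMap (M := M'') φ hφ
    rw [map_zero, ← LinearMap.comp_apply, LinearMap.lTensor_comp_rTensor, ← LinearMap.rTensor_comp_lTensor,
      LinearMap.comp_apply, hx, map_zero]
  obtain ⟨y, rfl⟩ := (_root_.rTensor_exact A hfg hg _).mp h1
  have h2 : φ.lTensor M' y = 0 := by
    apply rTensor_injective_of_flat_quotient hf hfg hg B
    rw [map_zero, ← LinearMap.comp_apply, LinearMap.rTensor_comp_lTensor, ← LinearMap.lTensor_comp_rTensor,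
      LinearMap.comp_apply, hx]
  rw [(map_eq_zero_iff _ (Module.Flat.lTensor_preserves_injective_linearMap (M := M') φ hφ)).mp h2, map_zero]

/-- The kernel of a surjection of flat modules is flat. -/
theorem flat_ker_of_exact (hf : Function.Injective f) (hfg : Function.Exact f g)
    (hg : Function.Surjective g) [Module.Flat R M] [Module.Flat R M''] : Module.Flat R M' := by
  rw [Module.Flat.iff_lTensor_preserves_injective_linearMap]
  intro A B _ _ _ _ φ hφ
  refine Function.Injective.of_comp (f := f.rTensor B) ?_
  rw [← LinearMap.coe_comp, LinearMap.rTensor_comp_lTensor, ← LinearMap.lTensor_comp_rTensor, LinearMap.coe_comp]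
  exact (Module.Flat.lTensor_preserves_injective_linearMap φ hφ).comp
    (rTensor_injective_of_flat_quotient hf hfg hg A)

theorem quotTensorEquivQuotSMul_one_tmul {Q : Type*} [AddCommGroup Q] [Module R Q] (I : Ideal R) (x : Q) :
    TensorProduct.quotTensorEquivQuotSMul Q I ((1 : R ⧸ I) ⊗ₜ[R] x) = Submodule.Quotient.mk x := by
  rw [← map_one (Ideal.Quotient.mk I)]
  simp [TensorProduct.quotTensorEquivQuotSMul_mk_tmul]

/-- An `R`-linear map of finite projective modules is bijective if it is so modulo an
ideal in the Jacobson radical. -/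
theorem bijective_of_baseChange_quotient_bijective {P P' : Type*} [AddCommGroup P] [Module R P]
    [Module.Finite R P] [AddCommGroup P'] [Module R P'] [Module.Finite R P'] [Module.Projective R P']
    (I : Ideal R) (hI : I ≤ Ideal.jacobson (⊥ : Ideal R)) (φ : P →ₗ[R] P')
    (h : Function.Bijective (φ.baseChange (R ⧸ I))) : Function.Bijective φ := by
  have hs : Function.Surjective φ := by
    refine LinearMap.surjective_of_surjective_comp_mkQ φ I hI fun z => ?_
    obtain ⟨w, hw⟩ := h.2 ((TensorProduct.quotTensorEquivQuotSMul P' I).symm z)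
    obtain ⟨x, rfl⟩ := TensorProduct.mk_surjective (R := R) (M := P) (S := R ⧸ I) Ideal.Quotient.mk_surjective w
    refine ⟨x, ?_⟩
    simp only [TensorProduct.mk_apply, LinearMap.baseChange_tmul] at hw
    rw [← (TensorProduct.quotTensorEquivQuotSMul P' I).apply_symm_apply z, ← hw, quotTensorEquivQuotSMul_one_tmul]
    rfl
  obtain ⟨s, hsec⟩ := Module.projective_lifting_property φ LinearMap.id hs
  let ret : P →ₗ[R] P := LinearMap.id - s ∘ₗ φ
  have hret : ∀ x, φ (ret x) = 0 := fun x => by
    have := LinearMap.congr_fun hsec (φ x)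
    simp only [LinearMap.coe_comp, Function.comp_apply, LinearMap.id_coe, id_eq] at this
    simp [ret, this]
  have hker : LinearMap.ker φ = LinearMap.range ret := by
    refine le_antisymm (fun x hx => ⟨x, by simp [ret, LinearMap.mem_ker.mp hx]⟩) ?_
    rintro _ ⟨x, rfl⟩; exact hret x
  have hfg : (LinearMap.ker φ).FG := hker ▸ Module.Finite.iff_fg.mp inferInstance
  refine ⟨LinearMap.ker_eq_bot.mp (Submodule.eq_bot_of_le_smul_of_le_jacobson_bot I _ hfg ?_ hI), hs⟩
  intro x hx
  have h0 : (1 : R ⧸ I) ⊗ₜ[R] x = 0 := h.1 (by simp [LinearMap.mem_ker.mp hx])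
  have h1 : x ∈ I • (⊤ : Submodule R P) := by
    rw [← Submodule.Quotient.mk_eq_zero, ← quotTensorEquivQuotSMul_one_tmul, h0, map_zero]
  have h2 : ret x ∈ Submodule.map ret (I • ⊤) := Submodule.mem_map_of_mem h1
  rw [Submodule.map_smul'', Submodule.map_top, ← hker] at h2
  simpa [ret, LinearMap.mem_ker.mp hx] using h2

end Groth.Agent.CAlgBasics
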