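import Mathlib

/-! Flatness of `M/IM` over `R/I` and tensor products over `R`. -/

namespace Groth.Agent.CAlgBasics

open TensorProduct

variable {R : Type*} [CommRing R]

/-- Injective maps of `R'`-modules stay injective after `⊗[R] M` if `R' ⊗[R] M` is `R'`-flat. -/
theorem rTensor_injective_of_flat_baseChange (R' : Type*) [CommRing R'] [Algebra R R']
    (M : Type*) [AddCommGroup M] [Module R M] [Module.Flat R' (R' ⊗[R] M)]
    {A B : Type*} [AddCommGroup A] [Module R A] [Module R' A] [IsScalarTower R R' A]
    [AddCommGroup B] [Module R B] [Module R' B] [IsScalarTower R R' B]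
    (f : A →ₗ[R'] B) (hf : Function.Injective f) :
    Function.Injective ((f.restrictScalars R).rTensor M) := by
  let a := AlgebraTensorModule.cancelBaseChange R R' R' A M
  let b := AlgebraTensorModule.cancelBaseChange R R' R' B M
  have h := Module.Flat.rTensor_preserves_injective_linearMap (M := R' ⊗[R] M) f hf
  have e : ⇑((f.restrictScalars R).rTensor M) ∘ ⇑a = ⇑b ∘ ⇑(f.rTensor (R' ⊗[R] M)) := by
    funext z
    induction z with
    | zero => simp
    | tmul x y =>
      induction y with
      | zero => simp
      | tmul r m => simp [a, b]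
      | add u v hu hv => simp_all [TensorProduct.tmul_add]
    | add u v hu hv => simp_all
  rw [← EquivLike.injective_comp a, e]
  exact b.injective.comp h

/-- Conversely, flatness of `R' ⊗[R] M` can be checked with `⊗[R] M` on ideals of `R'`. -/
theorem flat_baseChange_of_rTensor_injective (R' : Type*) [CommRing R'] [Algebra R R']
    (M : Type*) [AddCommGroup M] [Module R M]
    (h : ∀ J : Ideal R', Function.Injective (((Submodule.subtype J).restrictScalars R).rTensor M)) :
    Module.Flat R' (R' ⊗[R] M) := by
  rw [Module.Flat.iff_rTensor_injective']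
  intro J
  let a := AlgebraTensorModule.cancelBaseChange R R' R' J M
  let b := AlgebraTensorModule.cancelBaseChange R R' R' R' M
  have e : ⇑b ∘ ⇑((Submodule.subtype J).rTensor (R' ⊗[R] M)) =
      ⇑(((Submodule.subtype J).restrictScalars R).rTensor M) ∘ ⇑a := by
    funext z
    induction z with
    | zero => simp
    | tmul x y =>
      induction y with
      | zero => simp
      | tmul r m => simp [a, b]
      | add u v hu hv => simp_all [TensorProduct.tmul_add]
    | add u v hu hv => simp_all
  rw [← EquivLike.comp_injective _ b, e]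
  exact (h J).comp a.injective

/-- Key step for flatness modulo an intersection of two ideals. -/
theorem rTensor_injective_aux {M Q X₁ X₂ : Type*} [AddCommGroup M] [Module R M]
    [AddCommGroup Q] [Module R Q] [AddCommGroup X₁] [Module R X₁] [AddCommGroup X₂] [Module R X₂]
    (J : Submodule R Q) (p₁ : Q →ₗ[R] X₁) (p₂ : Q →ₗ[R] X₂)
    (h₁ : Function.Injective ((J.map p₁).subtype.rTensor M))
    (h₂ : Function.Injective (((J ⊓ LinearMap.ker p₁).map p₂).subtype.rTensor M))
    (hsep : ∀ x, p₁ x = 0 → p₂ x = 0 → x = 0) :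
    Function.Injective (J.subtype.rTensor M) := by
  rw [injective_iff_map_eq_zero]
  intro x hx
  let f₁ := p₁.submoduleMap J
  have hz : f₁.rTensor M x = 0 := by
    apply h₁
    rw [map_zero, ← LinearMap.comp_apply, ← LinearMap.rTensor_comp,
      show (J.map p₁).subtype ∘ₗ f₁ = p₁ ∘ₗ J.subtype from rfl,
      LinearMap.rTensor_comp, LinearMap.comp_apply, hx, map_zero]
  obtain ⟨y, rfl⟩ := (_root_.rTensor_exact M (f := Submodule.inclusion (inf_le_left : J ⊓ LinearMap.ker p₁ ≤ J))
    (g := f₁) (fun z => ⟨fun h => ⟨⟨z, z.2, congrArg Subtype.val h⟩, rfl⟩,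
      fun ⟨w, hw⟩ => hw ▸ Subtype.ext w.2.2⟩) (p₁.submoduleMap_surjective J) x).mp hz
  let f₂ := p₂.submoduleMap (J ⊓ LinearMap.ker p₁)
  have hf₂ : Function.Bijective f₂ := by
    refine ⟨(injective_iff_map_eq_zero f₂).mpr fun z hz => Subtype.ext (hsep z z.2.2 (congrArg Subtype.val hz)), p₂.submoduleMap_surjective _⟩
  have hy : f₂.rTensor M y = 0 := by
    apply h₂
    rw [map_zero, ← LinearMap.comp_apply, ← LinearMap.rTensor_comp,
      show ((J ⊓ LinearMap.ker p₁).map p₂).subtype ∘ₗ f₂ =
        p₂ ∘ₗ J.subtype ∘ₗ Submodule.inclusion inf_le_left from rfl,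
      LinearMap.rTensor_comp, LinearMap.rTensor_comp, LinearMap.comp_apply, LinearMap.comp_apply, hx, map_zero]
  have : y = 0 := by
    apply (TensorProduct.congr (LinearEquiv.ofBijective f₂ hf₂) (LinearEquiv.refl R M)).injective
    rw [map_zero]; exact hy
  rw [this, map_zero]

end Groth.Agent.CAlgBasics
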