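import Mathlib
import Groth.Prelude.Def_CAlgX
import Groth.Agent.CAlgBasics.FlatAux

/-! Universally injective maps and flat cokernels. -/

namespace Groth.Agent.CAlgBasics

open TensorProduct

universe u

variable {R : Type u} [CommRing R] {M N P : Type u} [AddCommGroup M] [Module R M] [AddCommGroup N]
  [Module R N] [AddCommGroup P] [Module R P] {f : M →ₗ[R] N} {g : N →ₗ[R] P}

/-- If `f ⊗ R/I` is injective for all finitely generated `I` and the middle module is flat then the
cokernel is flat. -/
theorem flat_coker_of_injective_rTensor_quotient [Module.Flat R N] (hfg : Function.Exact f g)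
    (hg : Function.Surjective g)
    (H : ∀ I : Ideal R, I.FG → Function.Injective (f.rTensor (R ⧸ I))) : Module.Flat R P := by
  rw [Module.Flat.iff_rTensor_injective]
  intro I hI
  refine (injective_iff_map_eq_zero _).mpr fun z hz => ?_
  obtain ⟨y, rfl⟩ := LinearMap.lTensor_surjective I hg z
  have h1 : g (TensorProduct.lid R N (I.subtype.rTensor N y)) = 0 := by
    have := congrArg (TensorProduct.lid R P) hz
    rw [map_zero] at this
    rw [← this]
    clear this hz
    induction y with
    | zero => simp
    | tmul a b => simp
    | add a b ha hb => simp only [map_add, ha, hb]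
  obtain ⟨m, hm⟩ := (hfg _).mp h1
  have hmI : m ∈ (I • ⊤ : Submodule R M) := by
    have hmem : f m ∈ (I • ⊤ : Submodule R N) := by
      rw [hm]
      clear hm h1 hz
      induction y with
      | zero => simp
      | tmul a b => simpa using Submodule.smul_mem_smul a.2 Submodule.mem_top
      | add a b ha hb => simp only [map_add]; exact add_mem ha hb
    rw [← Submodule.Quotient.mk_eq_zero]
    apply (TensorProduct.tensorQuotEquivQuotSMul M I).symm.injective
    rw [map_zero]
    apply H I hI
    rw [map_zero, TensorProduct.tensorQuotEquivQuotSMul_symm_mk, LinearMap.rTensor_tmul]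
    rw [← TensorProduct.tensorQuotEquivQuotSMul_symm_mk (M := N)]
    rw [(Submodule.Quotient.mk_eq_zero _).mpr hmem, map_zero]
  obtain ⟨w, hw⟩ : ∃ w : I ⊗[R] M, TensorProduct.lid R M (I.subtype.rTensor M w) = m :=
    Submodule.smul_induction_on hmI (fun r hr x _ => ⟨⟨r, hr⟩ ⊗ₜ x, by simp⟩)
      (fun a b ⟨p, hp⟩ ⟨q, hq⟩ => ⟨p + q, by rw [map_add, map_add, hp, hq]⟩)
  have h2 : y = f.lTensor I w := by
    apply Module.Flat.rTensor_preserves_injective_linearMap (M := N) I.subtype Subtype.val_injective
    apply (TensorProduct.lid R N).injective
    rw [← hm, ← hw]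
    clear hw h1 hm hz
    induction w with
    | zero => simp
    | tmul a b => simp
    | add a b ha hb => simp only [map_add, ha, hb]
  rw [h2, ← LinearMap.lTensor_comp_apply, hfg.linearMap_comp_eq_zero]
  simp

theorem universallyInjective_of_flat_coker [Module.Flat R P] (hf : Function.Injective f)
    (hfg : Function.Exact f g) (hg : Function.Surjective g) : CAlgX.UniversallyInjective R f :=
  fun Q _ _ => rTensor_injective_of_flat_quotient hf hfg hg Q

theorem injective_of_universallyInjective (hf : CAlgX.UniversallyInjective R f) : Function.Injective f := by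
  intro a b hab
  have := hf R (a₁ := a ⊗ₜ 1) (a₂ := b ⊗ₜ 1) (by simp [hab])
  simpa using congrArg (TensorProduct.rid R M) this

theorem flat_of_universallyInjective_of_flat [Module.Flat R N] (hf : CAlgX.UniversallyInjective R f) :
    Module.Flat R M := by
  rw [Module.Flat.iff_rTensor_injective]
  intro I hI
  refine (injective_iff_map_eq_zero _).mpr fun z hz => ?_
  have h : f.lTensor I z = 0 := by
    apply Module.Flat.rTensor_preserves_injective_linearMap (M := N) I.subtype Subtype.val_injective
    rw [map_zero, ← LinearMap.comp_apply, LinearMap.rTensor_comp_lTensor, ← LinearMap.lTensor_comp_rTensor,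
      LinearMap.comp_apply, hz, map_zero]
  apply (TensorProduct.comm R I M).injective
  apply hf I
  rw [map_zero, map_zero]
  have key : f.rTensor I (TensorProduct.comm R I M z) = TensorProduct.comm R I N (f.lTensor I z) := by
    clear h hz
    induction z with
    | zero => simp
    | tmul a b => simp
    | add a b ha hb => simp only [map_add, ha, hb]
  rw [key, h, map_zero]

end Groth.Agent.CAlgBasics
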