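import Mathlib

/-! Finite torsion free modules over domains embed in finite free modules; consequences. -/

namespace Groth.Agent.CAlgBasics

open Module

variable (R : Type*) [CommRing R] [IsDomain R] (M : Type*) [AddCommGroup M] [Module R M]

/-- A finite torsion free module over a domain embeds into some `R^n`. -/
theorem exists_injective_pi_of_isTorsionFree [Module.Finite R M] [Module.IsTorsionFree R M] :
    ∃ (n : ℕ) (f : M →ₗ[R] (Fin n → R)), Function.Injective f := by
  classical
  obtain ⟨k, g, hg⟩ := Module.Finite.exists_fin (R := R) (M := M)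
  obtain ⟨I, hI, hmax⟩ := exists_maximal_linearIndepOn' R g
  have hr : ∀ i, ∃ r : R, r ≠ 0 ∧ r • g i ∈ Submodule.span R (g '' I) := by
    intro i
    by_cases hi : i ∈ I
    · exact ⟨1, one_ne_zero, by simpa using Submodule.subset_span (Set.mem_image_of_mem g hi)⟩
    · by_contra hc
      push Not at hc
      have h2 : LinearIndepOn R g (insert i I) := by
        rw [Set.insert_eq, Set.union_comm]
        have hgi : g i ≠ 0 := fun h0 => hc 1 one_ne_zero (by simp [h0])
        refine hI.union (LinearIndepOn.singleton' fun r hr => (smul_eq_zero.mp hr).resolve_right hgi) ?_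
        rw [Set.image_singleton, Submodule.disjoint_def]
        intro x hx hx'
        obtain ⟨c, rfl⟩ := Submodule.mem_span_singleton.mp hx'
        by_contra h0
        exact hc c (fun e => h0 (by simp [e])) hx
      exact hi ((hmax _ (Set.subset_insert _ _) h2) ▸ Set.mem_insert _ _)
  choose r hr0 hr using hr
  have hd : (∏ i, r i) ≠ 0 := Finset.prod_ne_zero_iff.mpr fun i _ => hr0 i
  have hmem : ∀ m : M, (∏ i, r i) • m ∈ Submodule.span R (Set.range (fun x : I => g x)) := by
    intro m
    have hm : m ∈ Submodule.span R (Set.range g) := hg ▸ Submodule.mem_top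
    rw [show Set.range (fun x : I => g x) = g '' I by rw [Set.image_eq_range]]
    induction hm using Submodule.span_induction with
    | mem x hx =>
      obtain ⟨i, rfl⟩ := hx
      rw [← Finset.mul_prod_erase _ _ (Finset.mem_univ i), mul_comm, mul_smul]
      exact Submodule.smul_mem _ _ (hr i)
    | zero => simp
    | add x y _ _ hx hy => rw [smul_add]; exact add_mem hx hy
    | smul a x _ hx => rw [smul_comm]; exact Submodule.smul_mem _ _ hx
  let b := Basis.span hI
  let e := Fintype.equivFin I
  refine ⟨Fintype.card I, (LinearEquiv.funCongrLeft R R e.symm).toLinearMap ∘ₗ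
    (b.equivFun.toLinearMap ∘ₗ (LinearMap.lsmul R M (∏ i, r i)).codRestrict _ hmem), ?_⟩
  simp only [LinearMap.coe_comp, LinearEquiv.coe_coe]
  refine (LinearEquiv.injective _).comp ((LinearEquiv.injective _).comp ?_)
  intro x y hxy
  exact (LinearMap.lsmul_injective hd) (congrArg Subtype.val hxy)

/-- Finite torsion free modules over Bézout domains are free. -/
theorem free_of_isTorsionFree_of_isBezout [IsBezout R] [Module.Finite R M] [Module.IsTorsionFree R M] :
    Module.Free R M := by
  suffices ∀ (n : ℕ) (N : Submodule R (Fin n → R)), N.FG → Module.Free R N by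
    obtain ⟨n, f, hf⟩ := exists_injective_pi_of_isTorsionFree R M
    haveI := this n (LinearMap.range f) (Module.Finite.iff_fg.mp inferInstance)
    exact Module.Free.of_equiv (LinearEquiv.ofInjective f hf).symm
  intro n
  induction n with
  | zero => intro N _; exact Module.Free.of_subsingleton R N
  | succ n ih =>
    intro N hN
    haveI : Module.Finite R N := Module.Finite.iff_fg.mpr hN
    let p : N →ₗ[R] R := (LinearMap.proj 0).comp N.subtype
    have hp : (LinearMap.range p).FG := Module.Finite.iff_fg.mp inferInstance
    haveI : Submodule.IsPrincipal (LinearMap.range p) := IsBezout.isPrincipal_of_FG _ hp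
    haveI hfree : Module.Free R (LinearMap.range p) := by
      by_cases h0 : LinearMap.range p = ⊥
      · rw [h0]; exact Module.Free.of_subsingleton R _
      · exact Module.Free.of_equiv (Ideal.isoBaseOfIsPrincipal h0)
    obtain ⟨s, hs⟩ := Module.projective_lifting_property p.rangeRestrict LinearMap.id p.surjective_rangeRestrict
    let q : (Fin (n+1) → R) →ₗ[R] (Fin n → R) := LinearMap.funLeft R R Fin.succ
    let K := LinearMap.ker p
    haveI : Module.Finite R K := by
      let ret : N →ₗ[R] N := LinearMap.id - s.comp p.rangeRestrict
      have hret : ∀ x, ret x ∈ K := fun x => by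
        have := congrArg Subtype.val (LinearMap.congr_fun hs (p.rangeRestrict x))
        simp only [LinearMap.coe_comp, Function.comp_apply, LinearMap.id_coe, id_eq] at this
        simp only [K, LinearMap.mem_ker, ret, LinearMap.sub_apply, LinearMap.id_apply, LinearMap.comp_apply, map_sub]
        rw [sub_eq_zero]; exact this.symm
      refine Module.Finite.of_surjective (ret.codRestrict K hret) fun ⟨x, hx⟩ => ⟨x, Subtype.ext ?_⟩
      have : p.rangeRestrict x = 0 := Subtype.ext hx
      simp [ret, this]
    let qK : K →ₗ[R] (Fin n → R) := q.comp (N.subtype.comp K.subtype)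
    have hq : Function.Injective qK := by
      intro x y hxy
      apply Subtype.ext; apply Subtype.ext; funext j
      refine Fin.cases ?_ (fun j => congrFun hxy j) j
      exact (LinearMap.mem_ker.mp x.2).trans (LinearMap.mem_ker.mp y.2).symm
    haveI := ih (LinearMap.range qK) (Module.Finite.iff_fg.mp inferInstance)
    haveI : Module.Free R K := Module.Free.of_equiv (LinearEquiv.ofInjective qK hq).symm
    have hps : ∀ v, p.rangeRestrict (s v) = v := fun v => LinearMap.congr_fun hs v
    have hmem : ∀ x : N, x - s (p.rangeRestrict x) ∈ K := fun x => by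
      have := congrArg Subtype.val (hps (p.rangeRestrict x))
      simp only [LinearMap.rangeRestrict, LinearMap.codRestrict_apply] at this
      simp [K, LinearMap.mem_ker, map_sub, sub_eq_zero, this, LinearMap.rangeRestrict]
    refine Module.Free.of_equiv (M := K × LinearMap.range p) (LinearEquiv.ofBijective (K.subtype.coprod s) ⟨?_, ?_⟩)
    · rintro ⟨x, v⟩ ⟨x', v'⟩ h
      simp only [LinearMap.coprod_apply] at h
      have hx : ∀ y : K, p.rangeRestrict (K.subtype y) = 0 := fun y => Subtype.ext (LinearMap.mem_ker.mp y.2)
      have hv : v = v' := by simpa only [map_add, hx, hps, zero_add] using congrArg p.rangeRestrict h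
      subst hv
      exact Prod.ext (K.injective_subtype (add_right_cancel h)) rfl
    · intro x
      exact ⟨(⟨_, hmem x⟩, p.rangeRestrict x), by simp⟩

end Groth.Agent.CAlgBasics
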