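import Mathlib
import Groth.Agent.CAlgBasics.TorsionFree

/-! Reflexive modules over domains. -/

namespace Groth.Agent.CAlgBasics

open Module TensorProduct

universe u v w

section Domain

variable {R : Type u} [CommRing R] [IsDomain R]

/-- A finite module over a domain is isomorphic to a finite free module up to a nonzero scalar. -/
theorem exists_smul_id_factor (R : Type u) [CommRing R] [IsDomain R] (M : Type v) [AddCommGroup M]
    [Module R M] [Module.Finite R M] :
    ∃ (c : R) (n : ℕ) (ι : (Fin n → R) →ₗ[R] M) (h : M →ₗ[R] (Fin n → R)),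
      c ≠ 0 ∧ ι ∘ₗ h = c • LinearMap.id ∧ h ∘ₗ ι = c • LinearMap.id := by
  classical
  obtain ⟨k, g, hg⟩ := Module.Finite.exists_fin (R := R) (M := M)
  obtain ⟨I, hI, hmax⟩ := exists_maximal_linearIndepOn R g
  have hr : ∀ i, ∃ r : R, r ≠ 0 ∧ r • g i ∈ Submodule.span R (g '' I) := fun i => by
    by_cases hi : i ∈ I
    · exact ⟨1, one_ne_zero, by simpa using Submodule.subset_span (Set.mem_image_of_mem g hi)⟩
    · exact hmax i hi
  choose r hr0 hr using hr
  set c := ∏ i, r i
  have hc : c ≠ 0 := Finset.prod_ne_zero_iff.mpr fun i _ => hr0 i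
  let e := Fintype.equivFin I
  let ι : (Fin (Fintype.card I) → R) →ₗ[R] M := Fintype.linearCombination R fun j => g (e.symm j)
  have hι : Function.Injective ι :=
    (hI.comp e.symm e.symm.injective).fintypeLinearCombination_injective
  have hran : LinearMap.range ι = Submodule.span R (g '' I) := by
    rw [Fintype.range_linearCombination, Set.image_eq_range]
    exact congrArg _ (e.symm.surjective.range_comp fun i : I => g i)
  have hmem : ∀ m : M, c • m ∈ LinearMap.range ι := by
    intro m
    rw [hran]
    have hm : m ∈ Submodule.span R (Set.range g) := hg ▸ Submodule.mem_top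
    induction hm using Submodule.span_induction with
    | mem x hx =>
      obtain ⟨i, rfl⟩ := hx
      simp only [c]
      rw [← Finset.mul_prod_erase _ _ (Finset.mem_univ i), mul_comm, mul_smul]
      exact Submodule.smul_mem _ _ (hr i)
    | zero => simp
    | add x y _ _ hx hy => rw [smul_add]; exact add_mem hx hy
    | smul a x _ hx => rw [smul_comm]; exact Submodule.smul_mem _ _ hx
  let h : M →ₗ[R] (Fin (Fintype.card I) → R) :=
    (LinearEquiv.ofInjective ι hι).symm.toLinearMap ∘ₗ (c • LinearMap.id (R := R) (M := M)).codRestrict _ hmem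
  have h1 : ∀ m, ι (h m) = c • m := fun m =>
    LinearEquiv.ofInjective_symm_apply (h := hι) ι ((c • LinearMap.id (R := R) (M := M)).codRestrict _ hmem m)
  refine ⟨c, _, ι, h, hc, LinearMap.ext h1, LinearMap.ext fun x => hι ?_⟩
  simp [h1]

/-- One nonzero scalar kills the kernel and the cokernel of the evaluation map. -/
theorem exists_smul_eval (R : Type u) [CommRing R] [IsDomain R] (M : Type v) [AddCommGroup M]
    [Module R M] [Module.Finite R M] :
    ∃ c : R, c ≠ 0 ∧ (∀ x : M, Dual.eval R M x = 0 → c • x = 0) ∧
      ∀ y : Dual R (Dual R M), c • y ∈ LinearMap.range (Dual.eval R M) := by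
  obtain ⟨c, n, ι, h, hc, h1, -⟩ := exists_smul_id_factor R M
  refine ⟨c, hc, fun x hx => ?_, fun y => ?_⟩
  · have h0 : h x = 0 := (Module.bijective_dual_eval R (Fin n → R)).1 <| by
      rw [map_zero]
      exact LinearMap.ext fun φ => LinearMap.congr_fun hx (φ ∘ₗ h)
    have := LinearMap.congr_fun h1 x
    simp only [LinearMap.comp_apply, h0, map_zero, LinearMap.smul_apply, LinearMap.id_apply] at this
    exact this.symm
  · obtain ⟨z, hz⟩ := (Module.bijective_dual_eval R (Fin n → R)).2 (h.dualMap.dualMap y)
    refine ⟨ι z, LinearMap.ext fun φ => ?_⟩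
    have hφ : (φ ∘ₗ ι) ∘ₗ h = c • φ := by
      rw [LinearMap.comp_assoc, h1, LinearMap.comp_smul, LinearMap.comp_id]
    have := LinearMap.congr_fun hz (φ ∘ₗ ι)
    simp only [Dual.eval_apply, LinearMap.comp_apply, LinearMap.dualMap_apply'] at this
    rw [Dual.eval_apply, this, hφ]
    simp

theorem eval_injective_of_isTorsionFree {M : Type v} [AddCommGroup M] [Module R M]
    [Module.Finite R M] [IsTorsionFree R M] : Function.Injective (Dual.eval R M) := by
  obtain ⟨c, hc, h, -⟩ := exists_smul_eval R M
  refine (injective_iff_map_eq_zero _).mpr fun x hx => ?_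
  exact (smul_eq_zero.mp (h x hx)).resolve_left hc

/-- A module with torsion free cokernel in a finite reflexive module is reflexive. -/
theorem isReflexive_of_exact {M : Type v} {M' : Type w} {M'' : Type*} [AddCommGroup M] [Module R M]
    [Module.Finite R M] [AddCommGroup M'] [Module R M'] [Module.Finite R M'] [AddCommGroup M''] [Module R M'']
    (f : M →ₗ[R] M') (g : M' →ₗ[R] M'') (hf : Function.Injective f) (hfg : Function.Exact f g)
    [IsReflexive R M'] [IsTorsionFree R M''] : IsReflexive R M := by
  haveI : IsTorsionFree R M := hf.moduleIsTorsionFree f (map_smul f)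
  haveI : IsTorsionFree R (LinearMap.range g) :=
    Subtype.val_injective.moduleIsTorsionFree (LinearMap.range g).subtype (fun _ _ => rfl)
  let g' := g.rangeRestrict
  refine ⟨eval_injective_of_isTorsionFree, fun y => ?_⟩
  obtain ⟨x', hx'⟩ := (Module.bijective_dual_eval R M').2 (f.dualMap.dualMap y)
  have hgx : g' x' = 0 := eval_injective_of_isTorsionFree (R := R) <| by
    rw [map_zero]
    refine LinearMap.ext fun φ => ?_
    have h0 : (φ ∘ₗ g') ∘ₗ f = 0 := LinearMap.ext fun m => by
      have : g' (f m) = 0 := Subtype.ext ((hfg (f m)).mpr ⟨m, rfl⟩)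
      simp [this]
    have := LinearMap.congr_fun hx' (φ ∘ₗ g')
    simp only [LinearMap.dualMap_apply', Dual.eval_apply, LinearMap.comp_apply, h0, map_zero] at this
    simpa using this
  obtain ⟨x, rfl⟩ := (hfg x').mp (congrArg Subtype.val hgx)
  obtain ⟨c, hc, -, h2⟩ := exists_smul_eval R M
  obtain ⟨z, hz⟩ := h2 (y - Dual.eval R M x)
  have hz0 : z = 0 := hf <| (Module.bijective_dual_eval R M').1 <| by
    rw [map_zero, map_zero]
    refine LinearMap.ext fun φ => ?_
    have e1 := LinearMap.congr_fun hz (φ ∘ₗ f)
    have e2 := LinearMap.congr_fun hx' φ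
    simp only [LinearMap.dualMap_apply', Dual.eval_apply, LinearMap.comp_apply, LinearMap.smul_apply,
      LinearMap.sub_apply] at e1 e2
    rw [← e2, sub_self, smul_zero] at e1
    simpa using e1
  rw [hz0, map_zero] at hz
  exact ⟨x, (sub_eq_zero.mp ((smul_eq_zero.mp hz.symm).resolve_left hc)).symm⟩

/-- A finite reflexive module over a noetherian ring is the kernel of a map of finite free modules. -/
theorem IsReflexive.exists_injective_isTorsionFree_quotient [IsNoetherianRing R] (M : Type v)
    [AddCommGroup M] [Module R M] [Module.Finite R M] [IsReflexive R M] :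
    ∃ (n : ℕ) (f : M →ₗ[R] (Fin n → R)), Function.Injective f ∧
      IsTorsionFree R ((Fin n → R) ⧸ LinearMap.range f) := by
  classical
  haveI : Module.Finite R (Dual R M) := inferInstance
  obtain ⟨n, φ, hφ⟩ := Module.Finite.exists_fin (R := R) (M := Dual R M)
  let p : (Fin n → R) →ₗ[R] Dual R M := Fintype.linearCombination R φ
  have hp : Function.Surjective p := LinearMap.range_eq_top.mp (by rw [Fintype.range_linearCombination, hφ])
  refine ⟨n, LinearMap.pi φ, fun a b hab => (Module.bijective_dual_eval R M).1 (LinearMap.ext fun ψ => ?_), ?_⟩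
  · obtain ⟨w, rfl⟩ := hp ψ
    have hi : ∀ i, φ i a = φ i b := fun i => congrFun hab i
    simp [p, Fintype.linearCombination_apply, hi]
  rw [isTorsionFree_iff_smul_eq_zero]
  intro a q haq
  rw [or_iff_not_imp_left]
  intro ha
  obtain ⟨v, rfl⟩ := Submodule.Quotient.mk_surjective _ q
  rw [← Submodule.Quotient.mk_smul, Submodule.Quotient.mk_eq_zero] at haq
  obtain ⟨x, hx⟩ := haq
  rw [Submodule.Quotient.mk_eq_zero]
  let V : (Fin n → R) →ₗ[R] R := Fintype.linearCombination R v
  have hV : LinearMap.ker p ≤ LinearMap.ker V := by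
    intro w hw
    have h1 : ∑ i, w i * φ i x = 0 := by
      simpa [p, Fintype.linearCombination_apply] using LinearMap.congr_fun (LinearMap.mem_ker.mp hw) x
    have h2 : a * V w = 0 := by
      rw [← h1]; simp only [V, Fintype.linearCombination_apply, smul_eq_mul, Finset.mul_sum]
      refine Finset.sum_congr rfl fun i _ => ?_
      have : φ i x = a * v i := congrFun hx i
      rw [this]; ring
    exact (mul_eq_zero.mp h2).resolve_left ha
  let y : Dual R (Dual R M) :=
    (LinearMap.ker p).liftQ V hV ∘ₗ (p.quotKerEquivOfSurjective hp).symm.toLinearMap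
  have hy : ∀ w, y (p w) = V w := fun w => by
    have : (p.quotKerEquivOfSurjective hp).symm (p w) = Submodule.Quotient.mk w := by
      rw [LinearEquiv.symm_apply_eq]; rfl
    simp [y, this]
  refine ⟨(Module.evalEquiv R M).symm y, funext fun i => ?_⟩
  have := hy (Pi.single i 1)
  simp only [p, V, Fintype.linearCombination_apply_single, one_smul] at this
  simpa using this

theorem isReflexive_iff_exists [IsNoetherianRing R] (M : Type v) [AddCommGroup M] [Module R M]
    [Module.Finite R M] : IsReflexive R M ↔ ∃ (n : ℕ) (f : M →ₗ[R] (Fin n → R)),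
      Function.Injective f ∧ IsTorsionFree R ((Fin n → R) ⧸ LinearMap.range f) := by
  refine ⟨fun _ => IsReflexive.exists_injective_isTorsionFree_quotient M, ?_⟩
  rintro ⟨n, f, hf, _⟩
  exact isReflexive_of_exact f (LinearMap.range f).mkQ hf (LinearMap.exact_map_mkQ_range f)

/-- A finite reflexive module over a noetherian ring is the kernel of a map of finite free modules. -/
theorem IsReflexive.exists_exact_pi [IsNoetherianRing R] (M : Type v)
    [AddCommGroup M] [Module R M] [Module.Finite R M] [IsReflexive R M] :
    ∃ (n m : ℕ) (f : M →ₗ[R] (Fin n → R)) (g : (Fin n → R) →ₗ[R] (Fin m → R)),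
      Function.Injective f ∧ Function.Exact f g := by
  obtain ⟨n, f, hf, _⟩ := IsReflexive.exists_injective_isTorsionFree_quotient (R := R) M
  obtain ⟨m, k, hk⟩ := exists_injective_pi_of_isTorsionFree R ((Fin n → R) ⧸ LinearMap.range f)
  refine ⟨n, m, f, k ∘ₗ (LinearMap.range f).mkQ, hf, ?_⟩
  rw [LinearMap.exact_iff, LinearMap.ker_comp, LinearMap.ker_eq_bot.mpr hk, Submodule.comap_bot,
    Submodule.ker_mkQ]

/-- `Hom(M, N)` is reflexive if `N` is. -/
theorem isReflexive_linearMap [IsNoetherianRing R] (M : Type v) (N : Type w) [AddCommGroup M] [Module R M]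
    [Module.Finite R M] [AddCommGroup N] [Module R N] [Module.Finite R N] [IsReflexive R N] :
    IsReflexive R (M →ₗ[R] N) := by
  obtain ⟨r, p, hp⟩ := Module.Finite.exists_fin' R M
  obtain ⟨n, f, hf, _⟩ := IsReflexive.exists_injective_isTorsionFree_quotient (R := R) N
  haveI : IsReflexive R ((Fin r → R) →ₗ[R] N) := by
    refine isReflexive_of_exact (M' := (Fin r → R) →ₗ[R] (Fin n → R))
      (M'' := (Fin r → R) →ₗ[R] (Fin n → R) ⧸ LinearMap.range f)
      (LinearMap.llcomp R _ _ _ f) (LinearMap.llcomp R _ _ _ (LinearMap.range f).mkQ) ?_ ?_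
    · intro a b hab
      exact LinearMap.ext fun x => hf (LinearMap.congr_fun hab x)
    · intro ψ
      constructor
      · intro h
        have hmem : ∀ x, ψ x ∈ LinearMap.range f := fun x =>
          (Submodule.Quotient.mk_eq_zero _).mp (LinearMap.congr_fun h x)
        refine ⟨(LinearEquiv.ofInjective f hf).symm.toLinearMap ∘ₗ ψ.codRestrict _ hmem,
          LinearMap.ext fun x => ?_⟩
        exact LinearEquiv.ofInjective_symm_apply (h := hf) f (ψ.codRestrict _ hmem x)
      · rintro ⟨φ, rfl⟩
        exact LinearMap.ext fun x => (Submodule.Quotient.mk_eq_zero _).mpr ⟨φ x, rfl⟩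
  refine isReflexive_of_exact (M' := (Fin r → R) →ₗ[R] N) (M'' := LinearMap.ker p →ₗ[R] N)
    (LinearMap.lcomp R N p) (LinearMap.lcomp R N (LinearMap.ker p).subtype) ?_ ?_
  · intro a b hab
    refine LinearMap.ext fun x => ?_
    obtain ⟨y, rfl⟩ := hp x
    exact LinearMap.congr_fun hab y
  · intro ψ
    constructor
    · intro h
      have hle : LinearMap.ker p ≤ LinearMap.ker ψ := fun x hx => LinearMap.congr_fun h ⟨x, hx⟩
      refine ⟨(LinearMap.ker p).liftQ ψ hle ∘ₗ (p.quotKerEquivOfSurjective hp).symm.toLinearMap,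
        LinearMap.ext fun x => ?_⟩
      have : (p.quotKerEquivOfSurjective hp).symm (p x) = Submodule.Quotient.mk x := by
        rw [LinearEquiv.symm_apply_eq]; rfl
      simp [this]
    · rintro ⟨φ, rfl⟩
      exact LinearMap.ext fun x => by simp [LinearMap.mem_ker.mp x.2]

/-- Reflexivity is preserved by flat base change between noetherian domains. -/
theorem isReflexive_baseChange [IsNoetherianRing R] (R' : Type w) [CommRing R'] [IsDomain R']
    [Algebra R R'] [Module.Flat R R'] (M : Type v) [AddCommGroup M] [Module R M] [Module.Finite R M]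
    [IsReflexive R M] : IsReflexive R' (R' ⊗[R] M) := by
  obtain ⟨n, m, f, g, hf, hfg⟩ := IsReflexive.exists_exact_pi (R := R) M
  refine isReflexive_of_exact (f.baseChange R') (g.baseChange R')
    (Module.Flat.lTensor_preserves_injective_linearMap f hf) ?_
  exact Module.Flat.lTensor_exact R' hfg

/-- The evaluation map is surjective for finite modules over Bézout domains. -/
theorem eval_surjective_of_isBezout [IsBezout R] (M : Type v) [AddCommGroup M] [Module R M]
    [Module.Finite R M] : Function.Surjective (Dual.eval R M) := by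
  intro y
  let π := (Submodule.torsion R M).mkQ
  haveI : Module.Free R (M ⧸ Submodule.torsion R M) := free_of_isTorsionFree_of_isBezout R _
  obtain ⟨q, hq⟩ := (Module.bijective_dual_eval R (M ⧸ Submodule.torsion R M)).2 (π.dualMap.dualMap y)
  obtain ⟨x, rfl⟩ := Submodule.Quotient.mk_surjective _ q
  refine ⟨x, LinearMap.ext fun φ => ?_⟩
  have hle : Submodule.torsion R M ≤ LinearMap.ker φ := by
    rintro m ⟨⟨a, ha⟩, ham⟩
    have : a * φ m = 0 := by
      have h2 : a • m = 0 := ham
      rw [← smul_eq_mul, ← map_smul, h2, map_zero]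
    exact (mul_eq_zero.mp this).resolve_left (nonZeroDivisors.ne_zero ha)
  exact LinearMap.congr_fun hq ((Submodule.torsion R M).liftQ φ hle)

/-- Functionals on a localisation come, up to a unit, from functionals on the module. -/
theorem exists_dual_lift (M : Type v) [AddCommGroup M] [Module R M] [Module.Finite R M]
    (q : Ideal R) [q.IsPrime] (ψ : Dual (Localization.AtPrime q) (LocalizedModule q.primeCompl M)) :
    ∃ (s : q.primeCompl) (φ : Dual R M), ∀ x,
      algebraMap R (Localization.AtPrime q) (φ x) =
        algebraMap R (Localization.AtPrime q) s * ψ (LocalizedModule.mkLinearMap q.primeCompl M x) := by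
  obtain ⟨k, g, hg⟩ := Module.Finite.exists_fin (R := R) (M := M)
  obtain ⟨s, hs⟩ := IsLocalization.exist_integer_multiples_of_finite q.primeCompl
    fun i => ψ (LocalizedModule.mkLinearMap q.primeCompl M (g i))
  let A : M →ₗ[R] Localization.AtPrime q :=
    (s : R) • ((ψ.restrictScalars R) ∘ₗ LocalizedModule.mkLinearMap q.primeCompl M)
  have hA : ∀ x, A x ∈ LinearMap.range (Algebra.linearMap R (Localization.AtPrime q)) := by
    intro x
    have hx : x ∈ Submodule.span R (Set.range g) := hg ▸ Submodule.mem_top
    induction hx using Submodule.span_induction with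
    | mem x hx =>
      obtain ⟨i, rfl⟩ := hx
      obtain ⟨a, ha⟩ := hs i
      exact ⟨a, ha⟩
    | zero => rw [map_zero]; exact zero_mem _
    | add x y _ _ hx hy => rw [map_add]; exact add_mem hx hy
    | smul a x _ hx => rw [map_smul]; exact Submodule.smul_mem _ _ hx
  have hinj : Function.Injective (Algebra.linearMap R (Localization.AtPrime q)) :=
    IsLocalization.injective _ q.primeCompl_le_nonZeroDivisors
  refine ⟨s, (LinearEquiv.ofInjective _ hinj).symm.toLinearMap ∘ₗ A.codRestrict _ hA, fun x => ?_⟩
  refine (LinearEquiv.ofInjective_symm_apply (h := hinj) _ (A.codRestrict _ hA x)).trans ?_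
  simp [A, Algebra.smul_def]

theorem exists_smul_eq_zero_of_reflexive_localization (M : Type v) [AddCommGroup M] [Module R M]
    [Module.Finite R M] (q : Ideal R) [q.IsPrime]
    [IsReflexive (Localization.AtPrime q) (LocalizedModule q.primeCompl M)]
    (x : M) (hx : Dual.eval R M x = 0) : ∃ a ∉ q, a • x = 0 := by
  have h : LocalizedModule.mkLinearMap q.primeCompl M x = 0 := by
    refine (Module.bijective_dual_eval (Localization.AtPrime q) _).1 ?_
    rw [map_zero]
    refine LinearMap.ext fun ψ => ?_
    obtain ⟨s, φ, hφ⟩ := exists_dual_lift M q ψ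
    have h0 : φ x = 0 := LinearMap.congr_fun hx φ
    have := hφ x
    rw [h0, map_zero] at this
    exact ((IsLocalization.map_units (Localization.AtPrime q) s).mul_right_eq_zero.mp this.symm)
  obtain ⟨⟨a, ha⟩, h'⟩ := (IsLocalizedModule.eq_zero_iff q.primeCompl _).mp h
  exact ⟨a, ha, h'⟩

theorem exists_smul_mem_of_reflexive_localization (M : Type v) [AddCommGroup M] [Module R M]
    [Module.Finite R M] (q : Ideal R) [q.IsPrime]
    [IsReflexive (Localization.AtPrime q) (LocalizedModule q.primeCompl M)]
    {c : R} (hc : c ≠ 0) (y : Dual R (Dual R M)) (z : M) (hz : ∀ φ : Dual R M, φ z = c * y φ) :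
    ∃ a ∉ q, ∃ w : M, a • z = c • w := by
  set C := algebraMap R (Localization.AtPrime q) c with hC
  have hC0 : C ≠ 0 := fun h => hc <|
    IsLocalization.injective (Localization.AtPrime q) q.primeCompl_le_nonZeroDivisors (h.trans (map_zero _).symm)
  have hdiv : ∀ ψ : Dual (Localization.AtPrime q) (LocalizedModule q.primeCompl M),
      ∃ r, C * r = ψ (LocalizedModule.mkLinearMap q.primeCompl M z) := by
    intro ψ
    obtain ⟨s, φ, hφ⟩ := exists_dual_lift M q ψ
    obtain ⟨u, hu⟩ := IsLocalization.map_units (Localization.AtPrime q) s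
    refine ⟨↑u⁻¹ * algebraMap R _ (y φ), ?_⟩
    have := hφ z
    rw [hz, map_mul, ← hu] at this
    rw [mul_left_comm, hC, this, ← mul_assoc, Units.inv_mul, one_mul]
  choose Y hY using hdiv
  let Yl : Dual (Localization.AtPrime q) (Dual (Localization.AtPrime q) (LocalizedModule q.primeCompl M)) :=
    { toFun := Y
      map_add' := fun a b => mul_left_cancel₀ hC0 <| by rw [mul_add, hY, hY, hY]; rfl
      map_smul' := fun a b => mul_left_cancel₀ hC0 <| by
        simp only [RingHom.id_apply, smul_eq_mul]
        rw [mul_left_comm, hY, hY]; rfl }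
  obtain ⟨w, hw⟩ := (Module.bijective_dual_eval (Localization.AtPrime q) _).2 Yl
  have hzw : LocalizedModule.mkLinearMap q.primeCompl M z = C • w := by
    refine (Module.bijective_dual_eval (Localization.AtPrime q) _).1 (LinearMap.ext fun ψ => ?_)
    rw [Dual.eval_apply, map_smul, LinearMap.smul_apply, hw, smul_eq_mul]
    exact (hY ψ).symm
  obtain ⟨⟨w0, t⟩, rfl⟩ := IsLocalizedModule.mk'_surjective q.primeCompl (LocalizedModule.mkLinearMap q.primeCompl M) w
  rw [hC, algebraMap_smul, Function.uncurry_apply_pair, ← IsLocalizedModule.mk'_smul,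
    ← IsLocalizedModule.mk'_one q.primeCompl (LocalizedModule.mkLinearMap q.primeCompl M),
    IsLocalizedModule.mk'_eq_mk'_iff] at hzw
  obtain ⟨u, hu⟩ := hzw
  refine ⟨((u * t : q.primeCompl) : R), (u * t).2, ((u : q.primeCompl) : R) • w0, ?_⟩
  simp only [Submonoid.smul_def, Submonoid.coe_mul, one_smul, mul_smul] at hu ⊢
  rw [smul_comm c]
  exact hu.symm

/-- Reflexivity from the two local conditions at the maximal ideals. -/
theorem isReflexive_of_local_conditions (M : Type v) [AddCommGroup M] [Module R M]
    [Module.Finite R M]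
    (h1 : ∀ (m : Ideal R), m.IsMaximal → ∀ x : M, Dual.eval R M x = 0 → ∃ a ∉ m, a • x = 0)
    (h2 : ∀ (m : Ideal R), m.IsMaximal → ∀ (c : R), c ≠ 0 → ∀ (y : Dual R (Dual R M)) (z : M),
      (∀ φ : Dual R M, φ z = c * y φ) → ∃ a ∉ m, ∃ w : M, a • z = c • w) : IsReflexive R M := by
  refine ⟨(injective_iff_map_eq_zero _).mpr fun x hx => ?_, fun y => ?_⟩
  · by_contra hne
    obtain ⟨m, hm, hle⟩ := Ideal.exists_le_maximal (LinearMap.ker (LinearMap.toSpanSingleton R M x))
      ((Ideal.ne_top_iff_one _).mpr (by simpa using hne))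
    obtain ⟨a, ha, h⟩ := h1 m hm x hx
    exact ha (hle (by simpa using h))
  · obtain ⟨c, hc, -, hcoker⟩ := exists_smul_eval R M
    obtain ⟨z, hz⟩ := hcoker y
    have hz' : ∀ φ : Dual R M, φ z = c * y φ := fun φ => LinearMap.congr_fun hz φ
    suffices hmem : z ∈ LinearMap.range (LinearMap.lsmul R M c) by
      obtain ⟨w, rfl⟩ := hmem
      refine ⟨w, LinearMap.ext fun φ => mul_left_cancel₀ hc ?_⟩
      rw [← hz' φ]; simp
    by_contra hne
    obtain ⟨m, hm, hle⟩ := Ideal.exists_le_maximal
      ((LinearMap.range (LinearMap.lsmul R M c)).comap (LinearMap.toSpanSingleton R M z))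
      ((Ideal.ne_top_iff_one _).mpr (by simpa using hne))
    obtain ⟨a, ha, w, h⟩ := h2 m hm c hc y z hz'
    exact ha (hle ⟨w, h.symm⟩)

/-- Reflexivity can be tested at the maximal ideals. -/
theorem isReflexive_of_localizedModule [IsNoetherianRing R] (M : Type v) [AddCommGroup M] [Module R M]
    [Module.Finite R M]
    (H : ∀ (m : Ideal R) (_ : m.IsMaximal),
      IsReflexive (Localization.AtPrime m) (LocalizedModule m.primeCompl M)) : IsReflexive R M :=
  isReflexive_of_local_conditions M
    (fun m hm x hx => by
      haveI := H m hm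
      exact exists_smul_eq_zero_of_reflexive_localization M m x hx)
    (fun m hm c hc y z hz => by
      haveI := H m hm
      exact exists_smul_mem_of_reflexive_localization M m hc y z hz)

/-- Localisations of reflexive modules are reflexive. -/
theorem isReflexive_localizedModule [IsNoetherianRing R] (M : Type v) [AddCommGroup M] [Module R M]
    [Module.Finite R M] [IsReflexive R M] (p : Ideal R) [p.IsPrime] :
    IsReflexive (Localization.AtPrime p) (LocalizedModule p.primeCompl M) := by
  haveI := isReflexive_baseChange (Localization.AtPrime p) (R := R) M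
  exact Module.equiv (LocalizedModule.equivTensorProduct p.primeCompl M).symm

end Domain

end Groth.Agent.CAlgBasics
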