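import Mathlib
import Groth.Agent.CAlgBasics.Reflexive
import Groth.Agent.CAlgBasics.Depth

/-! Depth, Serre conditions and reflexivity. -/

namespace Groth.Agent.CAlgBasics

open Module IsLocalRing

universe u v w

variable {R : Type u} [CommRing R]

/-- `Hom` commutes with localisation, linearly over the localised ring. -/
noncomputable def homLocEquiv [IsNoetherianRing R] (S : Submonoid R) (M : Type v) (N : Type w)
    [AddCommGroup M] [Module R M] [Module.Finite R M] [AddCommGroup N] [Module R N] :
    LocalizedModule S (M →ₗ[R] N) ≃ₗ[Localization S]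
      (LocalizedModule S M →ₗ[Localization S] LocalizedModule S N) :=
  letI := Module.finitePresentation_of_finite R M
  LinearEquiv.extendScalarsOfIsLocalization S (Localization S)
    (IsLocalizedModule.iso S (LocalizedModule.map S (M := M) (N := N)))

theorem idealDepth_congr {I : Ideal R} {M : Type v} {N : Type w} [AddCommGroup M] [Module R M]
    [AddCommGroup N] [Module R N] (e : M ≃ₗ[R] N) :
    LocCoh.idealDepth I M = LocCoh.idealDepth I N := by
  have h1 : I • (⊤ : Submodule R M) = ⊤ ↔ I • (⊤ : Submodule R N) = ⊤ := by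
    rw [← (Submodule.map_injective_of_injective e.injective).eq_iff, Submodule.map_smul'',
      Submodule.map_top, LinearEquiv.range]
  simp only [LocCoh.idealDepth, h1, e.isWeaklyRegular_congr]

theorem depth_congr [IsLocalRing R] {M : Type v} {N : Type w} [AddCommGroup M] [Module R M]
    [AddCommGroup N] [Module R N] (e : M ≃ₗ[R] N) : LocCoh.depth R M = LocCoh.depth R N :=
  idealDepth_congr e

/-- `min k x ≤ d` for `k ≤ 2` passes to modules inheriting depth one and two. -/
theorem min_le_transfer {x x' : WithBot ℕ∞} (hx : x' ≤ x) {d d' : ℕ∞} {k : ℕ} (hk : k ≤ 2)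
    (h1 : 1 ≤ d → 1 ≤ d') (h2 : 2 ≤ d → 2 ≤ d') (h : min (k : WithBot ℕ∞) x ≤ (d : WithBot ℕ∞)) :
    min (k : WithBot ℕ∞) x' ≤ (d' : WithBot ℕ∞) := by
  have h' : min (k : WithBot ℕ∞) x' ≤ (d : WithBot ℕ∞) := (min_le_min_left _ hx).trans h
  have hk' : min (k : WithBot ℕ∞) x' ≤ ((2 : ℕ∞) : WithBot ℕ∞) :=
    (min_le_left _ _).trans (by
      rw [show ((k : WithBot ℕ∞)) = (((k : ℕ∞)) : WithBot ℕ∞) from rfl]
      exact WithBot.coe_le_coe.mpr (by exact_mod_cast hk))
  generalize min (k : WithBot ℕ∞) x' = y at h' hk' ⊢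
  induction y using WithBot.recBotCoe with
  | bot => exact bot_le
  | coe m =>
    rw [WithBot.coe_le_coe] at h' hk' ⊢
    rcases le_or_gt m 0 with hm0 | hm0
    · exact hm0.trans bot_le
    rcases le_or_gt m 1 with hm1 | hm1
    · exact hm1.trans (h1 ((Order.one_le_iff_pos.mpr hm0).trans h'))
    · have : (2 : ℕ∞) ≤ m := by
        have := ENat.add_one_le_iff (ENat.one_ne_top) |>.mpr hm1
        rwa [one_add_one_eq_two] at this
      exact hk'.trans (h2 (this.trans h'))

theorem hasSk_linearMap [IsNoetherianRing R] {M : Type v} {N : Type w} [AddCommGroup M] [Module R M]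
    [Module.Finite R M] [AddCommGroup N] [Module R N] [Module.Finite R N] {k : ℕ} (hk : k ≤ 2)
    (h : LocCoh.HasSk k R N) : LocCoh.HasSk k R (M →ₗ[R] N) := by
  intro p _
  let e := homLocEquiv p.primeCompl M N
  rw [depth_congr e, Module.supportDim_eq_of_equiv e]
  refine min_le_transfer ?_ hk one_le_depth_linearMap two_le_depth_linearMap (h p)
  obtain ⟨n, f, hf⟩ := Module.Finite.exists_fin' (Localization.AtPrime p) (LocalizedModule p.primeCompl M)
  refine (Module.supportDim_le_of_injective (LinearMap.lcomp (Localization.AtPrime p) _ f) ?_).trans ?_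
  · intro a b hab
    refine LinearMap.ext fun x => ?_
    obtain ⟨y, rfl⟩ := hf x
    exact LinearMap.congr_fun hab y
  · rw [Module.supportDim_eq_ringKrullDim_quotient_annihilator,
      Module.supportDim_eq_ringKrullDim_quotient_annihilator]
    refine ringKrullDim_le_of_surjective (Ideal.Quotient.factor ?_) (Ideal.Quotient.factor_surjective _)
    intro a ha
    rw [Module.mem_annihilator] at ha ⊢
    exact fun φ => LinearMap.ext fun y => ha _

section Domain

variable [IsDomain R] [IsNoetherianRing R]

/-- Localised reflexive modules are duals. -/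
noncomputable def reflexiveLocEquiv (M : Type v) [AddCommGroup M] [Module R M] [Module.Finite R M]
    [IsReflexive R M] (S : Submonoid R) :
    LocalizedModule S M ≃ₗ[Localization S]
      (LocalizedModule S (Dual R M) →ₗ[Localization S] LocalizedModule S R) :=
  (IsLocalizedModule.mapEquiv S (LocalizedModule.mkLinearMap S M)
      (LocalizedModule.mkLinearMap S (Dual R (Dual R M))) (Localization S) (Module.evalEquiv R M)) ≪≫ₗ
    homLocEquiv S (Dual R M) R

/-- `R_p`, as a module, is the localised module `R_p`. -/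
noncomputable def selfLocEquiv (S : Submonoid R) : LocalizedModule S R ≃ₗ[Localization S] Localization S :=
  LinearEquiv.extendScalarsOfIsLocalization S (Localization S)
    (IsLocalizedModule.iso S (Algebra.linearMap R (Localization S)))

theorem two_le_depth_of_reflexive (M : Type v) [AddCommGroup M] [Module R M] [Module.Finite R M]
    [IsReflexive R M] (p : Ideal R) [p.IsPrime]
    (h : 2 ≤ LocCoh.depth (Localization.AtPrime p) (Localization.AtPrime p)) :
    2 ≤ LocCoh.depth (Localization.AtPrime p) (LocalizedModule p.primeCompl M) := by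
  rw [depth_congr (M := LocalizedModule p.primeCompl M)
      (N := LocalizedModule p.primeCompl (Dual R M) →ₗ[Localization.AtPrime p] LocalizedModule p.primeCompl R)
      (reflexiveLocEquiv M p.primeCompl)]
  rw [← depth_congr (M := LocalizedModule p.primeCompl R) (N := Localization.AtPrime p)
      (selfLocEquiv p.primeCompl)] at h
  exact two_le_depth_linearMap (M := LocalizedModule p.primeCompl (Dual R M)) (N := LocalizedModule p.primeCompl R) h

theorem hasSk_two_of_reflexive (M : Type v) [AddCommGroup M] [Module R M] [Module.Finite R M]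
    [IsReflexive R M] (h : LocCoh.HasSk 2 R R) : LocCoh.HasSk 2 R M := by
  have h2 := hasSk_linearMap (M := Dual R M) le_rfl h
  intro p _
  let e := IsLocalizedModule.mapEquiv p.primeCompl (LocalizedModule.mkLinearMap p.primeCompl M)
    (LocalizedModule.mkLinearMap p.primeCompl (Dual R (Dual R M))) (Localization.AtPrime p) (Module.evalEquiv R M)
  rw [depth_congr (M := LocalizedModule p.primeCompl M)
      (N := LocalizedModule p.primeCompl (Dual R (Dual R M))) e,
    Module.supportDim_eq_of_equiv (M := LocalizedModule p.primeCompl M)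
      (N := LocalizedModule p.primeCompl (Dual R (Dual R M))) e]
  exact h2 p

theorem socleZero_localized_iff {M : Type v} [AddCommGroup M] [Module R M] (p : Ideal R) [p.IsPrime]
    (h : SocleZero (Localization.AtPrime p) (LocalizedModule p.primeCompl M)) (x : M)
    (hx : ∀ q : Ideal R, q.IsPrime → q < p → ∃ a ∉ q, a • x = 0) : ∃ a ∉ p, a • x = 0 := by
  have h0 : LocalizedModule.mkLinearMap p.primeCompl M x = 0 := by
    refine h.eq_zero_of_forall_prime fun Q hQ hQm => ?_
    have hlt : Q.comap (algebraMap R (Localization.AtPrime p)) < p := by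
      have hle : Q ≤ maximalIdeal _ := le_maximalIdeal hQ.ne_top
      refine lt_of_le_of_ne ?_ fun he => hQm ?_
      · exact (Ideal.comap_mono hle).trans (IsLocalization.AtPrime.under_maximalIdeal _ p).le
      · exact ((IsLocalization.map_comap p.primeCompl (Localization.AtPrime p) Q).symm.trans
          (congrArg _ he)).trans Localization.AtPrime.map_eq_maximalIdeal
    obtain ⟨a, ha, hax⟩ := hx _ (hQ.comap _) hlt
    exact ⟨algebraMap R _ a, ha, by rw [algebraMap_smul, ← map_smul, hax, map_zero]⟩
  obtain ⟨⟨a, ha⟩, h'⟩ := (IsLocalizedModule.eq_zero_iff p.primeCompl _).mp h0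
  exact ⟨a, ha, h'⟩

theorem isReflexive_of_forall_depth (M : Type v) [AddCommGroup M] [Module R M] [Module.Finite R M]
    (H : ∀ (p : Ideal R) [p.IsPrime],
      IsReflexive (Localization.AtPrime p) (LocalizedModule p.primeCompl M) ∨
        2 ≤ LocCoh.depth (Localization.AtPrime p) (LocalizedModule p.primeCompl M)) : IsReflexive R M := by
  suffices key : ∀ (n : ℕ∞) (p : Ideal R) [p.IsPrime], p.height = n →
      (∀ x : M, Dual.eval R M x = 0 → ∃ a ∉ p, a • x = 0) ∧
      (∀ (c : R), c ≠ 0 → ∀ (y : Dual R (Dual R M)) (z : M),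
        (∀ φ : Dual R M, φ z = c * y φ) → ∃ a ∉ p, ∃ w : M, a • z = c • w) by
    exact isReflexive_of_local_conditions M (fun m hm => (@key _ m hm.isPrime rfl).1)
      (fun m hm => (@key _ m hm.isPrime rfl).2)
  intro n
  induction n using WellFoundedLT.induction with
  | ind n ih =>
  intro p _ hn
  have hsmall : ∀ q : Ideal R, q.IsPrime → q < p →
      (∀ x : M, Dual.eval R M x = 0 → ∃ a ∉ q, a • x = 0) ∧
      (∀ (c : R), c ≠ 0 → ∀ (y : Dual R (Dual R M)) (z : M),
        (∀ φ : Dual R M, φ z = c * y φ) → ∃ a ∉ q, ∃ w : M, a • z = c • w) :=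
    fun q hq hlt => ih q.height (hn ▸ Ideal.height_strict_mono_of_isPrime hlt) q rfl
  rcases H p with hrefl | hdepth
  · exact ⟨fun x hx => exists_smul_eq_zero_of_reflexive_localization M p x hx,
      fun c hc y z hz => exists_smul_mem_of_reflexive_localization M p hc y z hz⟩
  rw [two_le_depth_iff] at hdepth
  obtain ⟨h1, h2⟩ := hdepth
  have htors : ∀ x : M, Dual.eval R M x = 0 → ∃ a ∉ p, a • x = 0 := fun x hx =>
    socleZero_localized_iff p h1 x fun q hq hlt => (hsmall q hq hlt).1 x hx
  refine ⟨htors, fun c hc y z hz => ?_⟩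
  by_cases hcp : c ∈ p
  · -- `c` is regular on the localisation, use depth two
    set C := algebraMap R (Localization.AtPrime p) c with hC
    have hCreg : IsSMulRegular (LocalizedModule p.primeCompl M) C := by
      refine IsSMulRegular.of_right_eq_zero_of_smul fun ξ hξ => ?_
      obtain ⟨⟨x, t⟩, rfl⟩ := IsLocalizedModule.mk'_surjective p.primeCompl (LocalizedModule.mkLinearMap p.primeCompl M) ξ
      rw [hC, algebraMap_smul, Function.uncurry_apply_pair, ← IsLocalizedModule.mk'_smul,
        IsLocalizedModule.mk'_eq_zero'] at hξ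
      obtain ⟨⟨a, ha⟩, hax⟩ := hξ
      have hx : Dual.eval R M x = 0 := LinearMap.ext fun φ => by
        have : a * (c * φ x) = 0 := by
          rw [← smul_eq_mul c, ← map_smul, ← smul_eq_mul, ← map_smul]
          have hax' : a • c • x = 0 := hax
          rw [hax', map_zero]
        rcases mul_eq_zero.mp this with h0 | h0
        · exact absurd (h0 ▸ p.zero_mem : a ∈ p) ha
        · exact (mul_eq_zero.mp h0).resolve_left hc
      obtain ⟨b, hb, hbx⟩ := htors x hx
      rw [Function.uncurry_apply_pair, IsLocalizedModule.mk'_eq_zero']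
      exact ⟨⟨b, hb⟩, hbx⟩
    have hCm : C ∈ maximalIdeal (Localization.AtPrime p) :=
      (IsLocalization.AtPrime.to_map_mem_maximal_iff (Localization.AtPrime p) p c).mpr hcp
    have h3 := socleZeroMod_iff.mp (h2 C hCm hCreg)
    have hz0 : (Submodule.Quotient.mk (LocalizedModule.mkLinearMap p.primeCompl M z) :
        QuotSMulTop C (LocalizedModule p.primeCompl M)) = 0 := by
      refine h3.eq_zero_of_forall_prime fun Q hQ hQm => ?_
      have hlt : Q.comap (algebraMap R (Localization.AtPrime p)) < p := by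
        have hle : Q ≤ maximalIdeal _ := le_maximalIdeal hQ.ne_top
        refine lt_of_le_of_ne ?_ fun he => hQm ?_
        · exact (Ideal.comap_mono hle).trans (IsLocalization.AtPrime.under_maximalIdeal _ p).le
        · exact ((IsLocalization.map_comap p.primeCompl (Localization.AtPrime p) Q).symm.trans
          (congrArg _ he)).trans Localization.AtPrime.map_eq_maximalIdeal
      obtain ⟨a, ha, w, haw⟩ := (hsmall _ (hQ.comap _) hlt).2 c hc y z hz
      refine ⟨algebraMap R _ a, ha, ?_⟩
      rw [← Submodule.Quotient.mk_smul, Submodule.Quotient.mk_eq_zero, algebraMap_smul, ← map_smul, haw,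
        map_smul, ← algebraMap_smul (Localization.AtPrime p) c]
      exact Submodule.smul_mem_pointwise_smul _ _ _ Submodule.mem_top
    rw [Submodule.Quotient.mk_eq_zero, Submodule.mem_smul_pointwise_iff_exists] at hz0
    obtain ⟨ω, -, hω⟩ := hz0
    obtain ⟨⟨w0, t⟩, rfl⟩ := IsLocalizedModule.mk'_surjective p.primeCompl (LocalizedModule.mkLinearMap p.primeCompl M) ω
    rw [hC, algebraMap_smul, Function.uncurry_apply_pair, ← IsLocalizedModule.mk'_smul,
      ← IsLocalizedModule.mk'_one p.primeCompl (LocalizedModule.mkLinearMap p.primeCompl M),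
      IsLocalizedModule.mk'_eq_mk'_iff] at hω
    obtain ⟨u, hu⟩ := hω
    refine ⟨((u * t : p.primeCompl) : R), (u * t).2, ((u : p.primeCompl) : R) • w0, ?_⟩
    simp only [Submonoid.smul_def, Submonoid.coe_mul, one_smul, mul_smul] at hu ⊢
    rw [smul_comm c]
    exact hu
  · exact ⟨c, hcp, z, rfl⟩

/-- For a finite nonzero module over a noetherian domain: torsion free iff support contains the
generic point and `S₁`. -/
theorem isTorsionFree_iff_hasSk_one (M : Type v) [AddCommGroup M] [Module R M] [Module.Finite R M]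
    [Nontrivial M] : Module.IsTorsionFree R M ↔
      (⟨⊥, Ideal.isPrime_bot⟩ : PrimeSpectrum R) ∈ Module.support R M ∧ LocCoh.HasSk 1 R M := by
  constructor
  · intro _
    constructor
    · obtain ⟨x, hx⟩ := exists_ne (0 : M)
      rw [Module.mem_support_iff']
      exact ⟨x, fun r hr h0 => hx ((smul_eq_zero.mp h0).resolve_left fun h => hr (h ▸ Submodule.zero_mem _))⟩
    · intro p _
      by_cases hp : p = ⊥
      · refine (min_le_right _ _).trans ?_
        subst hp
        refine le_trans ((Module.supportDim_le_ringKrullDim _ _).trans ?_) (WithBot.coe_le_coe.mpr bot_le)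
        rw [IsLocalization.AtPrime.ringKrullDim_eq_height (⊥ : Ideal R) (Localization.AtPrime (⊥ : Ideal R))]
        simp
      · refine (min_le_left _ _).trans ?_
        obtain ⟨c, hc, hc0⟩ := Submodule.exists_mem_ne_zero_of_ne_bot hp
        refine (WithBot.coe_le_coe (a := ((1 : ℕ) : ℕ∞))).mpr ?_
        rw [Nat.cast_one, one_le_depth_iff]
        refine socleZero_of_isSMulRegular
          ((IsLocalization.AtPrime.to_map_mem_maximal_iff (Localization.AtPrime p) p c).mpr hc) ?_
        refine IsSMulRegular.of_right_eq_zero_of_smul fun ξ hξ => ?_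
        obtain ⟨⟨x, t⟩, rfl⟩ := IsLocalizedModule.mk'_surjective p.primeCompl (LocalizedModule.mkLinearMap p.primeCompl M) ξ
        rw [algebraMap_smul, Function.uncurry_apply_pair, ← IsLocalizedModule.mk'_smul,
          IsLocalizedModule.mk'_eq_zero'] at hξ
        obtain ⟨a, hax⟩ := hξ
        rw [Function.uncurry_apply_pair, IsLocalizedModule.mk'_eq_zero']
        refine ⟨a, ?_⟩
        rw [Submonoid.smul_def] at hax ⊢
        rw [smul_comm] at hax
        exact (smul_eq_zero.mp hax).resolve_left hc0
  · rintro ⟨hbot, hS⟩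
    by_contra htf
    -- some nonzero prime is associated
    obtain ⟨p, hp, hp0⟩ : ∃ p ∈ associatedPrimes R M, p ≠ ⊥ := by
      by_contra hc
      push Not at hc
      refine htf (isTorsionFree_iff_smul_eq_zero.mpr fun r x hrx => or_iff_not_imp_left.mpr fun hr0 => ?_)
      by_contra hx
      have : r ∈ ⋃ p ∈ associatedPrimes R M, (p : Set R) := by
        rw [biUnion_associatedPrimes_eq_zero_divisors R M]
        exact ⟨x, hx, hrx⟩
      simp only [Set.mem_iUnion, SetLike.mem_coe, exists_prop] at this
      obtain ⟨p, hp, hrp⟩ := this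
      rw [hc p hp, Ideal.mem_bot] at hrp
      exact hr0 hrp
    haveI := hp.isPrime
    have hd : 1 ≤ LocCoh.depth (Localization.AtPrime p) (LocalizedModule p.primeCompl M) := by
      have := hS p
      have h1 : (1 : WithBot ℕ∞) ≤ Module.supportDim (Localization.AtPrime p) (LocalizedModule p.primeCompl M) := by
        have hb : ∀ Q : PrimeSpectrum (Localization.AtPrime p), Q ∈ Module.support (Localization.AtPrime p) (LocalizedModule p.primeCompl M) := by
          intro Q
          obtain ⟨x, hx⟩ := Module.mem_support_iff'.mp hbot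
          rw [Module.mem_support_iff']
          refine ⟨LocalizedModule.mkLinearMap p.primeCompl M x, fun r hr h0 => ?_⟩
          obtain ⟨⟨a, t⟩, rfl⟩ := IsLocalization.mk'_surjective p.primeCompl r
          have hne : a ≠ 0 := fun h => hr (by simp [h])
          have h0' := congrArg (fun ξ => algebraMap R (Localization.AtPrime p) t • ξ) h0
          simp only [Function.uncurry_apply_pair, smul_zero, smul_smul, IsLocalization.mk'_spec'] at h0'
          rw [algebraMap_smul, ← map_smul, IsLocalizedModule.eq_zero_iff p.primeCompl] at h0'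
          obtain ⟨⟨b, hb⟩, hbx⟩ := h0'
          exact hx (b * a) (by simpa using mul_ne_zero (fun h => hb (by rw [h]; exact p.zero_mem)) hne)
            (by rw [mul_smul]; exact hbx)
        have : ringKrullDim (Localization.AtPrime p) ≤ Module.supportDim (Localization.AtPrime p) (LocalizedModule p.primeCompl M) :=
          Order.krullDim_le_of_strictMono (fun Q => ⟨Q, hb Q⟩) (fun _ _ h => h)
        refine le_trans ?_ this
        rw [IsLocalization.AtPrime.ringKrullDim_eq_height p (Localization.AtPrime p)]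
        refine WithBot.coe_le_coe.mpr (Order.one_le_iff_pos.mpr ?_)
        exact lt_of_le_of_lt bot_le (Ideal.height_strict_mono_of_isPrime (I := ⊥) (bot_lt_iff_ne_bot.mpr hp0))
      rw [Nat.cast_one, min_eq_left h1] at this
      exact WithBot.coe_le_coe.mp this
    rw [one_le_depth_iff] at hd
    obtain ⟨_, f, hf⟩ := (isAssociatedPrime_iff_exists_injective_linearMap p M).mp hp
    have hz := hd (LocalizedModule.mkLinearMap p.primeCompl M (f 1)) fun a ha => by
      obtain ⟨⟨a, t⟩, rfl⟩ := IsLocalization.mk'_surjective p.primeCompl a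
      have ha' : a ∈ p := (IsLocalization.AtPrime.mk'_mem_maximal_iff (Localization.AtPrime p) p a t).mp ha
      simp only []
      rw [IsLocalization.mk'_eq_mul_mk'_one, mul_comm, mul_smul, algebraMap_smul,
        ← map_smul (LocalizedModule.mkLinearMap p.primeCompl M), ← map_smul f,
        show a • (1 : R ⧸ p) = 0 by
          change Ideal.Quotient.mk p (a • (1 : R)) = 0
          simp [Ideal.Quotient.eq_zero_iff_mem, ha'], map_zero, map_zero, smul_zero]
    obtain ⟨⟨b, hb⟩, hb'⟩ := (IsLocalizedModule.eq_zero_iff p.primeCompl _).mp hz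
    change b • f 1 = 0 at hb'
    rw [← map_smul, ← map_zero f] at hb'
    refine hb (Ideal.Quotient.eq_zero_iff_mem.mp ?_)
    have := hf hb'
    rwa [show b • (1 : R ⧸ p) = Ideal.Quotient.mk p b by
      change Ideal.Quotient.mk p (b • (1 : R)) = _; simp] at this

/-- The integral closure of a noetherian domain in a finite extension, if finite, is reflexive. -/
theorem isReflexive_integralClosure {A L : Type u} [CommRing A] [IsDomain A] [IsNoetherianRing A]
    [Field L] [Algebra A L] (hinj : Function.Injective (algebraMap A L))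
    [Module.Finite A (integralClosure A L)] : IsReflexive A (integralClosure A L) := by
  set B := integralClosure A L
  haveI : IsTorsionFree A L := isTorsionFree_iff_smul_eq_zero.mpr fun a x h => by
    rw [Algebra.smul_def] at h
    exact (mul_eq_zero.mp h).imp (fun h' => hinj (h'.trans (map_zero _).symm)) id
  haveI : IsTorsionFree A B :=
    Subtype.val_injective.moduleIsTorsionFree (fun x : B => (x : L)) (fun _ _ => rfl)
  refine ⟨eval_injective_of_isTorsionFree, fun y => ?_⟩
  obtain ⟨c, hc, -, hcoker⟩ := exists_smul_eval A B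
  obtain ⟨z, hz⟩ := hcoker y
  have hz' : ∀ φ : Dual A B, φ z = c * y φ := fun φ => LinearMap.congr_fun hz φ
  let S : Set L := {w | ∀ (d : A) (b : B), d ≠ 0 → (b : L) = d • w → ∀ φ : Dual A B, d ∣ φ b}
  let ex : ∀ w : L, w ∈ S → ∀ (d : A) (b : B), d ≠ 0 → (b : L) = d • w → c • w ∈ B := by
    intro w hw d b hd hb
    choose t ht using fun φ => hw d b hd hb φ
    let yw : Dual A (Dual A B) :=
      { toFun := t
        map_add' := fun φ ψ => mul_left_cancel₀ hd (by rw [mul_add, ← ht, ← ht, ← ht]; rfl)
        map_smul' := fun a φ => mul_left_cancel₀ hd (by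
          simp only [RingHom.id_apply, smul_eq_mul]; rw [mul_left_comm, ← ht, ← ht]; rfl) }
    obtain ⟨z', hz''⟩ := hcoker yw
    have : d • z' = c • b := eval_injective_of_isTorsionFree (R := A) <| LinearMap.ext fun φ => by
      have h1 : φ z' = c * t φ := LinearMap.congr_fun hz'' φ
      simp only [map_smul, LinearMap.smul_apply, Dual.eval_apply, smul_eq_mul]
      rw [h1, mul_left_comm, ← ht]
    have h2 : d • (z' : L) = d • (c • w) := by
      rw [smul_comm d c w, ← hb]
      exact congrArg Subtype.val this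
    have h3 : (z' : L) = c • w := smul_right_injective L hd h2
    rw [← h3]; exact z'.2
  haveI : IsScalarTower A L L := inferInstance
  -- `w = z / c`
  have hcL : algebraMap A L c ≠ 0 := fun h => hc (hinj (h.trans (map_zero _).symm))
  set w : L := (algebraMap A L c)⁻¹ * (z : L) with hw
  have hcw : c • w = (z : L) := by rw [Algebra.smul_def, hw, mul_inv_cancel_left₀ hcL]
  have hwS : w ∈ S := by
    intro d b hd hb φ
    refine ⟨y φ, mul_left_cancel₀ hc ?_⟩
    have : c • b = d • z := Subtype.ext (by
      change c • (b : L) = d • (z : L)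
      rw [hb, ← hcw, smul_comm])
    rw [mul_left_comm, ← hz', ← smul_eq_mul, ← map_smul, this, map_smul, smul_eq_mul]
  have hmul : ∀ w₁ ∈ S, ∀ w₂ ∈ S, (∃ (d : A) (b : B), d ≠ 0 ∧ (b : L) = d • w₁) →
      (∃ (d : A) (b : B), d ≠ 0 ∧ (b : L) = d • w₂) → w₁ * w₂ ∈ S := by
    rintro w₁ h₁ w₂ h₂ ⟨d₁, b₁, hd₁, hb₁⟩ ⟨d₂, b₂, hd₂, hb₂⟩ D b'' hD hb'' φ
    choose t ht using fun x : B => h₁ d₁ b₁ hd₁ hb₁ (φ ∘ₗ LinearMap.mulLeft A x)
    let ψ : Dual A B :=
      { toFun := t
        map_add' := fun x x' => mul_left_cancel₀ hd₁ (by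
          rw [mul_add, ← ht, ← ht, ← ht]; simp [add_mul])
        map_smul' := fun a x => mul_left_cancel₀ hd₁ (by
          simp only [RingHom.id_apply, smul_eq_mul]; rw [mul_left_comm, ← ht, ← ht]; simp) }
    obtain ⟨s, hs⟩ := h₂ d₂ b₂ hd₂ hb₂ ψ
    refine ⟨s, mul_left_cancel₀ (mul_ne_zero hd₁ hd₂) ?_⟩
    have h3 : (d₁ * d₂) • b'' = D • (b₂ * b₁) := Subtype.ext (by
      change (d₁ * d₂) • (b'' : L) = D • ((b₂ : L) * (b₁ : L))
      rw [hb'', hb₁, hb₂]
      simp only [Algebra.smul_def, map_mul]; ring)
    have h4 : φ (b₂ * b₁) = d₁ * (d₂ * s) := by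
      rw [← hs]; exact ht b₂
    rw [← smul_eq_mul, ← map_smul, h3, map_smul, smul_eq_mul, h4]; ring
  -- every element of `S` with a denominator lies in `B`
  let T : Subalgebra A L :=
    { carrier := {w | w ∈ S ∧ ∃ (d : A) (b : B), d ≠ 0 ∧ (b : L) = d • w}
      mul_mem' := fun {a b} ha hb => ⟨hmul _ ha.1 _ hb.1 ha.2 hb.2, by
        obtain ⟨d₁, b₁, hd₁, hb₁⟩ := ha.2
        obtain ⟨d₂, b₂, hd₂, hb₂⟩ := hb.2
        refine ⟨d₁ * d₂, b₁ * b₂, mul_ne_zero hd₁ hd₂, ?_⟩
        change (b₁ : L) * (b₂ : L) = _
        rw [hb₁, hb₂, smul_mul_smul_comm]⟩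
      one_mem' := ⟨fun d b hd hb φ => ⟨φ 1, by
        have : b = d • (1 : B) := Subtype.ext hb
        rw [this, map_smul, smul_eq_mul]⟩, 1, 1, one_ne_zero, by simp⟩
      add_mem' := fun {a b} ha hb => by
        obtain ⟨d₁, b₁, hd₁, hb₁⟩ := ha.2
        obtain ⟨d₂, b₂, hd₂, hb₂⟩ := hb.2
        have hsum : ((d₂ • b₁ + d₁ • b₂ : B) : L) = (d₁ * d₂) • (a + b) := by
          change d₂ • (b₁ : L) + d₁ • (b₂ : L) = _
          rw [hb₁, hb₂, smul_add, mul_smul, mul_smul, smul_comm d₂ d₁]
        refine ⟨fun D b'' hD hb'' φ => ?_, d₁ * d₂, _, mul_ne_zero hd₁ hd₂, hsum⟩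
        obtain ⟨s₁, hs₁⟩ := ha.1 d₁ b₁ hd₁ hb₁ φ
        obtain ⟨s₂, hs₂⟩ := hb.1 d₂ b₂ hd₂ hb₂ φ
        refine ⟨s₁ + s₂, mul_left_cancel₀ (mul_ne_zero hd₁ hd₂) ?_⟩
        have h3 : (d₁ * d₂) • b'' = D • (d₂ • b₁ + d₁ • b₂) := Subtype.ext (by
          change (d₁ * d₂) • (b'' : L) = D • ((d₂ • b₁ + d₁ • b₂ : B) : L)
          rw [hb'', hsum, smul_comm])
        rw [← smul_eq_mul, ← map_smul, h3, map_smul, map_add, map_smul, map_smul, hs₁, hs₂]
        simp only [smul_eq_mul]; ring
      zero_mem' := ⟨fun d b hd hb φ => by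
        have : b = 0 := Subtype.ext (by simpa using hb)
        simp [this], 1, 0, one_ne_zero, by simp⟩
      algebraMap_mem' := fun r => ⟨fun d b hd hb φ => ⟨r * φ 1, by
        have : b = (d * r) • (1 : B) := Subtype.ext (by
          change (b : L) = (d * r) • (1 : L)
          rw [hb, mul_smul, Algebra.algebraMap_eq_smul_one])
        rw [this, map_smul, smul_eq_mul, mul_assoc]⟩, 1, ⟨algebraMap A L r, isIntegral_algebraMap⟩,
        one_ne_zero, by simp⟩ }
  have hTfg : (Subalgebra.toSubmodule T).FG := by
    let g : Subalgebra.toSubmodule T →ₗ[A] B :=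
      (c • (Subalgebra.toSubmodule T).subtype).codRestrict (Subalgebra.toSubmodule B) fun x => by
        obtain ⟨hx, d, b, hd, hb⟩ := x.2
        exact ex _ hx d b hd hb
    have hg : Function.Injective g := fun a b hab =>
      Subtype.ext (smul_right_injective L hc (congrArg Subtype.val hab))
    haveI : IsNoetherian A B := isNoetherian_of_isNoetherianRing_of_finite A B
    exact Module.Finite.iff_fg.mp (Module.Finite.of_injective g hg)
  have hwT : w ∈ T := ⟨hwS, c, z, hc, hcw.symm⟩
  refine ⟨⟨w, IsIntegral.of_mem_of_fg T hTfg w hwT⟩, LinearMap.ext fun φ => mul_left_cancel₀ hc ?_⟩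
  rw [Dual.eval_apply, ← hz', ← smul_eq_mul, ← map_smul]
  exact congrArg φ (Subtype.ext hcw)

end Domain

end Groth.Agent.CAlgBasics
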