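import Mathlib
import Groth.Prelude.Def_Found

/-! Mittag-Leffler modules, via domination of maps from finitely presented modules. -/

namespace Groth.Agent.CAlgBasics

open TensorProduct

universe u v w

variable {R : Type u} [CommRing R]

/-- Coordinates in `Rⁿ ⊗ N`. -/
noncomputable def piCoord (n : ℕ) (N : Type v) [AddCommGroup N] [Module R N] :
    (Fin n → R) ⊗[R] N →ₗ[R] (Fin n → N) :=
  TensorProduct.lift <| LinearMap.mk₂ R (fun v q => fun a => v a • q)
    (fun v v' q => funext fun a => add_smul _ _ _) (fun c v q => funext fun a => mul_smul _ _ _)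
    (fun v q q' => funext fun a => smul_add _ _ _) (fun c v q => funext fun a => smul_comm _ _ _)

theorem piCoord_sum_single {n : ℕ} {N : Type v} [AddCommGroup N] [Module R N] (q : Fin n → N) :
    piCoord n N (∑ a, Pi.single a (1 : R) ⊗ₜ[R] q a) = q := by
  classical
  funext b
  simp [piCoord, map_sum, Finset.sum_apply, Pi.single_apply]

theorem exists_sum_tmul {n : ℕ} {P : Type v} {N : Type w} [AddCommGroup P] [Module R P] [AddCommGroup N]
    [Module R N] (p : Fin n → P) (hp : Submodule.span R (Set.range p) = ⊤) (y : P ⊗[R] N) :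
    ∃ q : Fin n → N, y = ∑ a, p a ⊗ₜ[R] q a := by
  induction y with
  | zero => exact ⟨0, by simp⟩
  | tmul x z =>
    obtain ⟨c, hc⟩ := (Submodule.mem_span_range_iff_exists_fun R).mp (hp ▸ Submodule.mem_top (x := x))
    exact ⟨fun a => c a • z, by rw [← hc, sum_tmul]; exact Finset.sum_congr rfl fun a _ => smul_tmul _ _ _⟩
  | add a b ha hb =>
    obtain ⟨q, rfl⟩ := ha
    obtain ⟨q', rfl⟩ := hb
    exact ⟨q + q', by simp [tmul_add, Finset.sum_add_distrib]⟩

theorem span_range_single (n : ℕ) :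
    Submodule.span R (Set.range fun a : Fin n => Pi.single (M := fun _ => R) a 1) = ⊤ := by
  have := (Pi.basisFun R (Fin n)).span_eq
  rwa [show ⇑(Pi.basisFun R (Fin n)) = fun a => Pi.single a 1 from funext (Pi.basisFun_apply R (Fin n))] at this

/-- `P ⊗ ∏ Qᵢ → ∏ (P ⊗ Qᵢ)` is surjective for finite `P`. -/
theorem piRightHom_surjective (P : Type v) [AddCommGroup P] [Module R P] [Module.Finite R P]
    {ι : Type w} (Q : ι → Type*) [∀ i, AddCommGroup (Q i)] [∀ i, Module R (Q i)] :
    Function.Surjective (piRightHom R R P Q) := by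
  intro y
  obtain ⟨n, p, hp⟩ := Module.Finite.exists_fin (R := R) (M := P)
  choose q hq using fun i => exists_sum_tmul p hp (y i)
  refine ⟨∑ a, p a ⊗ₜ fun i => q i a, funext fun i => ?_⟩
  rw [map_sum, Finset.sum_apply, hq]
  simp

/-- `P ⊗ ∏ Qᵢ → ∏ (P ⊗ Qᵢ)` is injective for finitely presented `P`. -/
theorem piRightHom_injective (P : Type v) [AddCommGroup P] [Module R P] [Module.FinitePresentation R P]
    {ι : Type w} (Q : ι → Type*) [∀ i, AddCommGroup (Q i)] [∀ i, Module R (Q i)] :
    Function.Injective (piRightHom R R P Q) := by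
  classical
  obtain ⟨n, m, π, T, hπ, hex⟩ := Module.FinitePresentation.exists_fin' R P
  let p : Fin n → P := fun a => π (Pi.single a 1)
  have hp : Submodule.span R (Set.range p) = ⊤ := by
    rw [show p = π ∘ fun a : Fin n => Pi.single (M := fun _ => R) a 1 from rfl, Set.range_comp,
      ← Submodule.map_span, span_range_single, Submodule.map_top, LinearMap.range_eq_top.mpr hπ]
  refine (injective_iff_map_eq_zero _).mpr fun x hx => ?_
  obtain ⟨q, rfl⟩ := exists_sum_tmul p hp x
  have hi : ∀ i, ∃ s : Fin m → Q i, ∀ a, q a i = ∑ k, T (Pi.single k 1) a • s k := by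
    intro i
    have h0 : π.rTensor (Q i) (∑ a, Pi.single a (1 : R) ⊗ₜ[R] q a i) = 0 := by
      have := congrFun hx i
      simpa [map_sum, p] using this
    obtain ⟨t, ht⟩ := (rTensor_exact (Q i) hex hπ _).mp h0
    obtain ⟨s, rfl⟩ := exists_sum_tmul _ (span_range_single (R := R) m) t
    refine ⟨s, fun a => ?_⟩
    have := congrFun (congrArg (piCoord n (Q i)) ht) a
    rw [piCoord_sum_single] at this
    rw [← this]
    simp [piCoord, map_sum, Finset.sum_apply]
  choose s hs using hi
  have hq : ∀ a, q a = ∑ k, T (Pi.single k 1) a • (fun i => s i k) := fun a => funext fun i => by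
    simp [hs i a, Finset.sum_apply]
  simp_rw [hq, tmul_sum, ← smul_tmul]
  rw [Finset.sum_comm]
  refine Finset.sum_eq_zero fun k _ => ?_
  rw [← sum_tmul]
  have : ∑ a, T (Pi.single k 1) a • p a = π (T (Pi.single k 1)) := by
    conv_rhs => rw [pi_eq_sum_univ' (T (Pi.single k 1)), map_sum]
    simp [p]
  rw [this, (hex _).mpr ⟨_, rfl⟩, zero_tmul]

/-- Elements killed in `M ⊗ N` are killed after a finitely presented stage. -/
theorem exists_factor_vanish {P M : Type u} [AddCommGroup P] [Module R P] [Module.FinitePresentation R P]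
    [AddCommGroup M] [Module R M] {N : Type v} [AddCommGroup N] [Module R N] (f : P →ₗ[R] M)
    (y : P ⊗[R] N) (hy : f.rTensor N y = 0) :
    ∃ (Q : Type u) (_ : AddCommGroup Q) (_ : Module R Q) (_ : Module.FinitePresentation R Q)
      (g : P →ₗ[R] Q) (c : Q →ₗ[R] M), c ∘ₗ g = f ∧ g.rTensor N y = 0 := by
  classical
  obtain ⟨n, p, hp⟩ := Module.Finite.exists_fin (R := R) (M := P)
  obtain ⟨q, rfl⟩ := exists_sum_tmul p hp y
  let π : (M →₀ R) →ₗ[R] M := Finsupp.linearCombination R id
  have hπ : Function.Surjective π := fun x => ⟨Finsupp.single x 1, by simp [π]⟩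
  let L : (M →₀ R) ⊗[R] N := ∑ a, Finsupp.single (f (p a)) (1 : R) ⊗ₜ q a
  have hL : π.rTensor N L = 0 := by
    rw [← hy]; simp [L, π, map_sum]
  have hexπ : Function.Exact (LinearMap.ker π).subtype π := fun v => ⟨fun h => ⟨⟨v, h⟩, rfl⟩, fun ⟨w, hw⟩ => hw ▸ w.2⟩
  obtain ⟨t, ht⟩ := (_root_.rTensor_exact (M := LinearMap.ker π) N (f := (LinearMap.ker π).subtype) (g := π) hexπ hπ L).mp hL
  obtain ⟨T, rfl⟩ := TensorProduct.exists_finset t
  let S : Finset M := (Finset.univ.image fun a => f (p a)) ∪ T.biUnion fun b => (b.1 : M →₀ R).support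
  let ρ : (M →₀ R) →ₗ[R] ((S : Set M) →₀ R) := Finsupp.lsubtypeDomain (S : Set M)
  let πS : ((S : Set M) →₀ R) →ₗ[R] M := Finsupp.linearCombination R Subtype.val
  have hρ : ∀ v : M →₀ R, v.support ⊆ S → πS (ρ v) = π v := by
    intro v hv
    have hv' : v = (ρ v).mapDomain Subtype.val := by
      ext x
      by_cases hx : x ∈ (S : Set M)
      · rw [show x = ((⟨x, hx⟩ : (S : Set M)) : M) from rfl, Finsupp.mapDomain_apply Subtype.val_injective]
        rfl
      · rw [Finsupp.mapDomain_notin_range _ _ (by simpa using hx)]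
        exact Finsupp.notMem_support_iff.mp fun h => hx (hv h)
    conv_rhs => rw [hv']
    simp only [π, πS, Finsupp.linearCombination_mapDomain, Function.id_comp]
  let rel : Submodule R (((S : Set M) →₀ R) × P) := Submodule.span R
    (Set.range (fun b : T => (ρ (b.1.1 : M →₀ R), (0 : P))) ∪
      Set.range fun a : Fin n => (ρ (Finsupp.single (f (p a)) 1), - p a))
  have hle : rel ≤ LinearMap.ker (πS.coprod f) := by
    refine Submodule.span_le.mpr ?_
    rintro _ (⟨b, rfl⟩ | ⟨a, rfl⟩)
    · have : (b.1.1 : M →₀ R).support ⊆ S := fun x hx =>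
        Finset.mem_union_right _ (Finset.mem_biUnion.mpr ⟨b.1, b.2, hx⟩)
      simp [hρ _ this, LinearMap.mem_ker.mp b.1.1.2]
    · have : (Finsupp.single (f (p a)) (1 : R)).support ⊆ S := fun x hx => by
        rw [Finset.mem_singleton.mp (Finsupp.support_single_subset hx)]
        exact Finset.mem_union_left _ (Finset.mem_image_of_mem _ (Finset.mem_univ a))
      simp [hρ _ this, π]
  haveI : Module.FinitePresentation R ((S : Set M) →₀ R) := Module.finitePresentation_of_projective R _
  haveI : Module.FinitePresentation R (((S : Set M) →₀ R) × P) := inferInstance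
  haveI hfp : Module.FinitePresentation R ((((S : Set M) →₀ R) × P) ⧸ rel) :=
    Module.finitePresentation_of_surjective rel.mkQ rel.mkQ_surjective
      (by rw [Submodule.ker_mkQ]; exact Submodule.fg_span ((Set.finite_range _).union (Set.finite_range _)))
  refine ⟨_, inferInstance, inferInstance, hfp, rel.mkQ ∘ₗ LinearMap.inr R _ _, rel.liftQ _ hle, ?_, ?_⟩
  · ext x; simp
  · have h1 : ∀ a, rel.mkQ (0, p a) = rel.mkQ (ρ (Finsupp.single (f (p a)) 1), 0) := fun a => by
      rw [eq_comm, ← sub_eq_zero, ← map_sub, Submodule.mkQ_apply, Submodule.Quotient.mk_eq_zero]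
      exact Submodule.subset_span (Or.inr ⟨a, by simp⟩)
    have h2 : (rel.mkQ ∘ₗ LinearMap.inl R _ _ ∘ₗ ρ).rTensor N L = 0 := by
      rw [← ht]
      simp only [map_sum, LinearMap.rTensor_tmul]
      refine Finset.sum_eq_zero fun b hb => ?_
      have : rel.mkQ (ρ (b.1 : M →₀ R), 0) = 0 := by
        rw [Submodule.mkQ_apply, Submodule.Quotient.mk_eq_zero]
        exact Submodule.subset_span (Or.inl ⟨⟨b, hb⟩, rfl⟩)
      simp only [LinearMap.comp_apply, Submodule.subtype_apply, LinearMap.inl_apply]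
      rw [this, zero_tmul]
    simp only [L, map_sum, LinearMap.rTensor_tmul, LinearMap.comp_apply, LinearMap.inl_apply] at h2
    rw [map_sum, ← h2]
    refine Finset.sum_congr rfl fun a _ => ?_
    simp only [LinearMap.rTensor_tmul, LinearMap.comp_apply, LinearMap.inr_apply, h1]

/-- Elements of `ker (f ⊗ N)` come from finitely presented `Q → N`. -/
theorem exists_lift_vanish {P : Type v} {M : Type w} [AddCommGroup P] [Module R P] [AddCommGroup M]
    [Module R M] {N : Type u} [AddCommGroup N] [Module R N] (f : P →ₗ[R] M)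
    (y : P ⊗[R] N) (hy : f.rTensor N y = 0) :
    ∃ (Q : Type u) (_ : AddCommGroup Q) (_ : Module R Q) (_ : Module.FinitePresentation R Q)
      (ψ : Q →ₗ[R] N) (y' : P ⊗[R] Q), ψ.lTensor P y' = y ∧ f.rTensor Q y' = 0 := by
  classical
  obtain ⟨T, rfl⟩ := TensorProduct.exists_finset y
  let e := T.equivFin
  let n' : Fin T.card → N := fun a => (e.symm a).1.2
  let p' : Fin T.card → P := fun a => (e.symm a).1.1
  have hsum : ∑ i ∈ T, i.1 ⊗ₜ[R] i.2 = ∑ a, p' a ⊗ₜ[R] n' a := by
    rw [← Finset.sum_coe_sort]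
    exact (Equiv.sum_comp e.symm fun i : T => i.1.1 ⊗ₜ[R] i.1.2).symm
  rw [hsum] at hy ⊢
  let ψ₀ : (Fin T.card → R) →ₗ[R] N := Fintype.linearCombination R n'
  have hψ : ∀ a, ψ₀ (Pi.single a 1) = n' a := fun a => by
    simp [ψ₀, Fintype.linearCombination_apply_single]
  let w : (Fin T.card → R) ⊗[R] M := ∑ a, Pi.single a (1 : R) ⊗ₜ f (p' a)
  have hw : ψ₀.rTensor M w = 0 := by
    have := congrArg (TensorProduct.comm R M N) hy
    simpa [w, map_sum, hψ] using this
  obtain ⟨Q, _, _, _, g, c, hcg, hg⟩ := exists_factor_vanish ψ₀ w hw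
  refine ⟨Q, inferInstance, inferInstance, inferInstance, c, ∑ a, p' a ⊗ₜ g (Pi.single a 1), ?_, ?_⟩
  · simp only [map_sum, LinearMap.lTensor_tmul]
    refine Finset.sum_congr rfl fun a _ => ?_
    rw [← LinearMap.comp_apply, hcg, hψ]
  · have := congrArg (TensorProduct.comm R Q M) hg
    simpa [w, map_sum] using this

theorem piRightHom_rTensor {P : Type v} {M : Type w} [AddCommGroup P] [Module R P] [AddCommGroup M]
    [Module R M] {ι : Type*} (Q : ι → Type*) [∀ i, AddCommGroup (Q i)] [∀ i, Module R (Q i)]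
    (f : P →ₗ[R] M) (x : P ⊗[R] (∀ i, Q i)) (i : ι) :
    piRightHom R R M Q (f.rTensor _ x) i = f.rTensor (Q i) (piRightHom R R P Q x i) := by
  induction x with
  | zero => simp
  | tmul a b => simp
  | add a b ha hb => simp [ha, hb]

theorem rTensor_comm_lTensor {P M : Type*} [AddCommGroup P] [Module R P] [AddCommGroup M] [Module R M]
    {Q N : Type*} [AddCommGroup Q] [Module R Q] [AddCommGroup N] [Module R N]
    (f : P →ₗ[R] M) (ψ : Q →ₗ[R] N) (x : P ⊗[R] Q) :
    f.rTensor N (ψ.lTensor P x) = ψ.lTensor M (f.rTensor Q x) := by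
  rw [← LinearMap.comp_apply, ← LinearMap.comp_apply, LinearMap.rTensor_comp_lTensor,
    LinearMap.lTensor_comp_rTensor]

/-- Maps from finitely presented modules into a Mittag-Leffler module are mutually dominated by maps
into finitely presented modules, with a factorisation. -/
theorem exists_factor_sameKer {M : Type u} [AddCommGroup M] [Module R M] (hM : CAlg.IsMittagLeffler R M)
    {P : Type u} [AddCommGroup P] [Module R P] [Module.FinitePresentation R P] (f : P →ₗ[R] M) :
    ∃ (Q : Type u) (_ : AddCommGroup Q) (_ : Module R Q) (_ : Module.FinitePresentation R Q)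
      (g : P →ₗ[R] Q) (c : Q →ₗ[R] M), c ∘ₗ g = f ∧
      ∀ (N : Type u) [AddCommGroup N] [Module R N], LinearMap.ker (f.rTensor N) = LinearMap.ker (g.rTensor N) := by
  classical
  let J : Type u := Σ (km : ℕ × ℕ) (r : Fin km.2 → (Fin km.1 → R)),
    {y : P ⊗[R] ((Fin km.1 → R) ⧸ Submodule.span R (Set.range r)) // f.rTensor _ y = 0}
  let QQ : J → Type u := fun j => (Fin j.1.1 → R) ⧸ Submodule.span R (Set.range j.2.1)
  obtain ⟨x, hx⟩ := piRightHom_surjective P QQ fun j => j.2.2.1
  have hfx : f.rTensor (∀ j, QQ j) x = 0 := by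
    refine (injective_iff_map_eq_zero (piRightHom R R M QQ)).mp (hM J QQ) _ ?_
    funext j
    rw [piRightHom_rTensor, hx]
    exact j.2.2.2
  obtain ⟨Q, _, _, _, g, c, hcg, hg⟩ := exists_factor_vanish f x hfx
  refine ⟨Q, inferInstance, inferInstance, inferInstance, g, c, hcg, fun N _ _ => le_antisymm ?_ ?_⟩
  · intro z hz
    obtain ⟨Q', _, _, _, ψ, y', rfl, hy'⟩ := exists_lift_vanish f z (LinearMap.mem_ker.mp hz)
    obtain ⟨k, K, e, hK⟩ := Module.FinitePresentation.exists_fin R Q'
    obtain ⟨m, r, rfl⟩ := Submodule.fg_iff_exists_fin_generating_family.mp hK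
    let j : J := ⟨(k, m), r, e.toLinearMap.lTensor P y', by rw [rTensor_comm_lTensor, hy', map_zero]⟩
    have h1 : g.rTensor (QQ j) (e.toLinearMap.lTensor P y') = 0 := by
      have := congrArg (fun t => piRightHom R R Q QQ t j) hg
      simp only [piRightHom_rTensor, hx, map_zero, Pi.zero_apply] at this
      exact this
    have h2 : g.rTensor Q' y' = 0 := by
      apply (e.lTensor Q).injective
      rw [map_zero]
      exact (rTensor_comm_lTensor g e.toLinearMap y').symm.trans h1
    rw [LinearMap.mem_ker, rTensor_comm_lTensor, h2, map_zero]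
  · intro z hz
    rw [LinearMap.mem_ker] at hz ⊢
    rw [← hcg, LinearMap.rTensor_comp_apply, hz, map_zero]

/-- The free criterion. -/
theorem isMittagLeffler_of_forall_free {M : Type u} [AddCommGroup M] [Module R M]
    (H : ∀ (n : ℕ) (f : (Fin n → R) →ₗ[R] M),
      ∃ (Q : Type u) (_ : AddCommGroup Q) (_ : Module R Q) (_ : Module.FinitePresentation R Q)
        (g : (Fin n → R) →ₗ[R] Q),
        ∀ (N : Type u) [AddCommGroup N] [Module R N], LinearMap.ker (f.rTensor N) = LinearMap.ker (g.rTensor N)) :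
    CAlg.IsMittagLeffler R M := by
  classical
  intro ι Q _ _
  refine (injective_iff_map_eq_zero _).mpr fun x hx => ?_
  obtain ⟨T, rfl⟩ := TensorProduct.exists_finset x
  let e := T.equivFin
  let f : (Fin T.card → R) →ₗ[R] M := Fintype.linearCombination R fun a => (e.symm a).1.1
  let y : (Fin T.card → R) ⊗[R] (∀ i, Q i) := ∑ a, Pi.single a (1 : R) ⊗ₜ (e.symm a).1.2
  have hy : f.rTensor _ y = ∑ i ∈ T, i.1 ⊗ₜ[R] i.2 := by
    rw [map_sum, ← Finset.sum_coe_sort T, ← Equiv.sum_comp e.symm (fun i : T => i.1.1 ⊗ₜ[R] i.1.2)]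
    exact Finset.sum_congr rfl fun a _ => by simp [f, Fintype.linearCombination_apply_single]
  obtain ⟨Q', _, _, _, g, hg⟩ := H T.card f
  have : g.rTensor (∀ i, Q i) y = 0 := by
    apply piRightHom_injective Q' Q
    rw [map_zero]
    funext i
    rw [piRightHom_rTensor, Pi.zero_apply, ← LinearMap.mem_ker, ← hg, LinearMap.mem_ker,
      ← piRightHom_rTensor, hy, hx, Pi.zero_apply]
  rw [← hy, ← LinearMap.mem_ker, hg, LinearMap.mem_ker, this]

/-- Domination by a map with finitely presented cokernel is factorisation. -/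
theorem exists_comp_eq_of_dominates {M N M' : Type u} [AddCommGroup M] [Module R M] [AddCommGroup N]
    [Module R N] [AddCommGroup M'] [Module R M'] (f : M →ₗ[R] N) (g : M →ₗ[R] M')
    [Module.FinitePresentation R (N ⧸ LinearMap.range f)]
    (H : ∀ (Q : Type u) [AddCommGroup Q] [Module R Q], LinearMap.ker (f.rTensor Q) ≤ LinearMap.ker (g.rTensor Q)) :
    ∃ h : N →ₗ[R] M', g = h ∘ₗ f := by
  classical
  obtain ⟨n, m, π, T, hπ, hex⟩ := Module.FinitePresentation.exists_fin' R (N ⧸ LinearMap.range f)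
  have hlift : ∀ a : Fin n, ∃ x : N, (LinearMap.range f).mkQ x = π (Pi.single a 1) := fun a =>
    Submodule.mkQ_surjective _ _
  choose ν hν using hlift
  let Ψ : (Fin n → R) →ₗ[R] N := Fintype.linearCombination R ν
  have hΨ : ∀ v, (LinearMap.range f).mkQ (Ψ v) = π v := fun v => by
    conv_rhs => rw [pi_eq_sum_univ' v, map_sum]
    simp only [Ψ, Fintype.linearCombination_apply, map_sum, map_smul, hν]
  have hrel : ∀ k : Fin m, ∃ μ : M, f μ = Ψ (T (Pi.single k 1)) := fun k => by
    have : Ψ (T (Pi.single k 1)) ∈ LinearMap.range f := by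
      rw [← (LinearMap.range f).ker_mkQ, LinearMap.mem_ker, hΨ, (hex _).mpr ⟨_, rfl⟩]
    exact this
  choose μ hμ using hrel
  -- solve the relations in `M'`
  let Tt : (Fin n → R) →ₗ[R] (Fin m → R) := Fintype.linearCombination R fun a k => T (Pi.single k 1) a
  let C := (Fin m → R) ⧸ LinearMap.range Tt
  let x : M ⊗[R] C := ∑ k, μ k ⊗ₜ (LinearMap.range Tt).mkQ (Pi.single k 1)
  have hcol : ∀ a, ∑ k, T (Pi.single k 1) a • (LinearMap.range Tt).mkQ (Pi.single k 1) = 0 := fun a => by
    simp_rw [← map_smul, ← map_sum]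
    rw [← LinearMap.mem_ker, Submodule.ker_mkQ, ← pi_eq_sum_univ']
    exact ⟨Pi.single a 1, by simp [Tt, Fintype.linearCombination_apply_single]⟩
  have hfx : f.rTensor C x = 0 := by
    simp only [x, map_sum, LinearMap.rTensor_tmul, hμ, Ψ, Fintype.linearCombination_apply, sum_tmul, smul_tmul]
    rw [Finset.sum_comm]
    refine Finset.sum_eq_zero fun a _ => ?_
    rw [← tmul_sum, hcol, tmul_zero]
  have hgx : g.rTensor C x = 0 := H C hfx
  let z : M' ⊗[R] (Fin m → R) := ∑ k, g (μ k) ⊗ₜ Pi.single k 1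
  have hz : (LinearMap.range Tt).mkQ.lTensor M' z = 0 := by
    rw [← hgx]; simp [z, x, map_sum]
  obtain ⟨t, ht⟩ := (lTensor_exact M' (LinearMap.exact_map_mkQ_range Tt) (Submodule.mkQ_surjective _) z).mp hz
  obtain ⟨y, hy⟩ := exists_sum_tmul _ (span_range_single (R := R) n) (TensorProduct.comm R M' _ t)
  have hgμ : ∀ k, g (μ k) = ∑ a, T (Pi.single k 1) a • y a := by
    intro k
    have h1 := congrArg (fun w => piCoord m M' (TensorProduct.comm R M' (Fin m → R) w) k) ht
    have h2 : TensorProduct.comm R M' (Fin m → R) (Tt.lTensor M' t) =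
        Tt.rTensor M' (TensorProduct.comm R M' _ t) := by
      clear ht hy h1
      induction t with
      | zero => simp
      | tmul a b => simp
      | add a b ha hb => simp [ha, hb]
    simp only [h2, hy, z, map_sum, TensorProduct.comm_tmul] at h1
    rw [← map_sum (piCoord m M'), ← map_sum (piCoord m M'), piCoord_sum_single] at h1
    rw [← h1, map_sum, Finset.sum_apply]
    refine Finset.sum_congr rfl fun a _ => ?_
    simp [piCoord, Tt, Fintype.linearCombination_apply_single]
  -- `h` is defined on `M × Rⁿ → N`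
  let F : (M × (Fin n → R)) →ₗ[R] N := f.coprod Ψ
  let G : (M × (Fin n → R)) →ₗ[R] M' := g.coprod (Fintype.linearCombination R y)
  have hF : Function.Surjective F := by
    intro b
    obtain ⟨v, hv⟩ := hπ ((LinearMap.range f).mkQ b)
    have : b - Ψ v ∈ LinearMap.range f := by
      rw [← (LinearMap.range f).ker_mkQ, LinearMap.mem_ker, map_sub, hΨ, hv, sub_self]
    obtain ⟨a, ha⟩ := this
    exact ⟨(a, v), by simp [F, ha]⟩
  have hker : LinearMap.ker F ≤ LinearMap.ker G := by
    rintro ⟨a, v⟩ h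
    simp only [LinearMap.mem_ker, F, LinearMap.coprod_apply] at h
    have hv : π v = 0 := by
      rw [← hΨ, ← LinearMap.mem_ker, Submodule.ker_mkQ]
      exact ⟨-a, by rw [map_neg]; exact (eq_neg_of_add_eq_zero_right h).symm⟩
    obtain ⟨b, rfl⟩ := (hex v).mp hv
    have hb : T b = ∑ k, b k • T (Pi.single k 1) := by
      conv_lhs => rw [pi_eq_sum_univ' b, map_sum]
      simp
    have hf0 : f (a + ∑ k, b k • μ k) = 0 := by
      rw [map_add, map_sum]
      simp only [map_smul, hμ]
      rw [← h, hb, map_sum]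
      simp
    have hker1 : a + ∑ k, b k • μ k ∈ LinearMap.ker g := by
      rw [LinearMap.mem_ker]
      have := H R (x := (a + ∑ k, b k • μ k) ⊗ₜ (1 : R)) (by simp [hf0])
      simpa using congrArg (TensorProduct.rid R M') this
    simp only [LinearMap.mem_ker, G, LinearMap.coprod_apply]
    rw [LinearMap.mem_ker, map_add, map_sum] at hker1
    refine Eq.trans ?_ hker1
    congr 1
    simp only [map_smul, hgμ, Finset.smul_sum, Fintype.linearCombination_apply]
    rw [Finset.sum_comm]
    refine Finset.sum_congr rfl fun i _ => ?_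
    simp [hb, Finset.sum_apply, Finset.sum_smul, mul_smul]
  refine ⟨(LinearMap.ker F).liftQ G hker ∘ₗ (F.quotKerEquivOfSurjective hF).symm.toLinearMap, LinearMap.ext fun a => ?_⟩
  have h3 : f a = F (a, 0) := by simp [F]
  have h4 : (F.quotKerEquivOfSurjective hF).symm (F (a, 0)) = Submodule.Quotient.mk (a, 0) := by
    rw [LinearEquiv.symm_apply_eq]; rfl
  simp [h3, h4, G]

theorem ker_eq_of_ker_rTensor {P M M' : Type*} [AddCommGroup P] [Module R P] [AddCommGroup M] [Module R M]
    [AddCommGroup M'] [Module R M'] (f : P →ₗ[R] M) (g : P →ₗ[R] M')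
    (h : LinearMap.ker (f.rTensor R) ≤ LinearMap.ker (g.rTensor R)) {x : P} (hx : f x = 0) : g x = 0 := by
  have := h (x := x ⊗ₜ (1 : R)) (by simp [hx])
  simpa using congrArg (TensorProduct.rid R M') this

/-- A finitely presented module over `M`. -/
structure Stage (R : Type u) [CommRing R] (M : Type u) [AddCommGroup M] [Module R M] : Type (u + 1) where
  Q : Type u
  [grp : AddCommGroup Q]
  [mod : Module R Q]
  [fp : Module.FinitePresentation R Q]
  c : Q →ₗ[R] M

attribute [instance] Stage.grp Stage.mod Stage.fp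

/-- Countably generated Mittag-Leffler modules: factor endomorphisms through finitely presented modules. -/
theorem exists_endo_factor {M : Type u} [AddCommGroup M] [Module R M] (hML : CAlg.IsMittagLeffler R M)
    (hc : CAlg.IsCountablyGenerated R M) {P : Type u} [AddCommGroup P] [Module R P] [Module.Finite R P]
    (f : P →ₗ[R] M) :
    ∃ (Q : Type u) (_ : AddCommGroup Q) (_ : Module R Q) (_ : Module.FinitePresentation R Q)
      (b : M →ₗ[R] Q) (c : Q →ₗ[R] M), (c ∘ₗ b) ∘ₗ f = f := by
  classical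
  obtain ⟨s, hs, hspan⟩ := hc
  obtain ⟨e, he⟩ := (hs.insert (0 : M)).exists_eq_range (Set.insert_nonempty _ _)
  have hspan' : Submodule.span R (Set.range e) = ⊤ :=
    top_unique (hspan ▸ Submodule.span_mono (he ▸ Set.subset_insert _ _))
  have step : ∀ (X : Stage R M) (m : M), ∃ (Y : Stage R M) (u : X.Q →ₗ[R] Y.Q), Y.c ∘ₗ u = X.c ∧
      (∀ (N : Type u) [AddCommGroup N] [Module R N], LinearMap.ker (X.c.rTensor N) = LinearMap.ker (u.rTensor N)) ∧
      m ∈ LinearMap.range Y.c := by
    intro X m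
    haveI : Module.FinitePresentation R R := Module.finitePresentation_of_projective R R
    obtain ⟨Q, _, _, _, g, c, hcg, hg⟩ :=
      exists_factor_sameKer hML (X.c.coprod (LinearMap.toSpanSingleton R M m))
    refine ⟨⟨Q, c⟩, g ∘ₗ LinearMap.inl R X.Q R, ?_, fun N _ _ => ?_, ⟨g (0, 1), ?_⟩⟩
    · rw [← LinearMap.comp_assoc, hcg, LinearMap.coprod_inl]
    · conv_lhs => rw [← LinearMap.coprod_inl X.c (LinearMap.toSpanSingleton R M m)]
      rw [LinearMap.rTensor_comp, LinearMap.rTensor_comp, LinearMap.ker_comp, LinearMap.ker_comp, hg N]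
    · have := LinearMap.congr_fun hcg ((0, 1) : X.Q × R)
      simpa using this
  choose Y u hu hker hmem using step
  obtain ⟨k, π, hπ⟩ := Module.Finite.exists_fin' R P
  haveI : Module.FinitePresentation R (Fin k → R) := Module.finitePresentation_of_projective R _
  let St : ℕ → Stage R M := fun n => Nat.rec (motive := fun _ => Stage R M) { Q := Fin k → R, c := f ∘ₗ π } (fun n X => Y X (e n)) n
  let U : ∀ n : ℕ, (St n).Q →ₗ[R] (St (n + 1)).Q := fun n => u (St n) (e n)
  have hU : ∀ n, (St (n + 1)).c ∘ₗ U n = (St n).c := fun n => hu _ _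
  have hk : ∀ n (N : Type u) [AddCommGroup N] [Module R N],
      LinearMap.ker ((St n).c.rTensor N) = LinearMap.ker ((U n).rTensor N) := fun n => hker _ _
  have next' : ∀ n (φ : (St (n + 1)).Q →ₗ[R] (St 1).Q),
      ∃ φ' : (St (n + 2)).Q →ₗ[R] (St 1).Q, φ ∘ₗ U n = φ' ∘ₗ (U (n + 1) ∘ₗ U n) := by
    intro n φ
    haveI : Module.FinitePresentation R ((St (n + 2)).Q ⧸ LinearMap.range (U (n + 1) ∘ₗ U n)) :=
      Module.finitePresentation_of_surjective _ (Submodule.mkQ_surjective _)
        (by rw [Submodule.ker_mkQ, LinearMap.range_eq_map]; exact Submodule.FG.map _ Module.Finite.fg_top)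
    refine exists_comp_eq_of_dominates _ _ fun N _ _ z hz => ?_
    rw [LinearMap.mem_ker] at hz ⊢
    have h1 : (St n).c.rTensor N z = 0 := by
      rw [← hU n, ← hU (n + 1), LinearMap.comp_assoc, LinearMap.rTensor_comp_apply, hz, map_zero]
    rw [← LinearMap.mem_ker, hk n, LinearMap.mem_ker] at h1
    rw [LinearMap.rTensor_comp_apply, h1, map_zero]
  choose nx hnx using next'
  let φ : ∀ n : ℕ, (St (n + 1)).Q →ₗ[R] (St 1).Q := fun n =>
    Nat.rec (motive := fun n => (St (n + 1)).Q →ₗ[R] (St 1).Q) LinearMap.id (fun n φn => nx n φn) n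
  let ψ : ∀ n, (St n).Q →ₗ[R] (St 1).Q := fun n => φ n ∘ₗ U n
  have hψ : ∀ n, ψ (n + 1) ∘ₗ U n = ψ n := fun n => (LinearMap.comp_assoc _ _ _).trans (hnx n (φ n)).symm
  have hinj : ∀ n z, (St n).c z = 0 → ψ n z = 0 := fun n z hz => by
    have := ker_eq_of_ker_rTensor _ _ (hk n R).le hz
    simp [ψ, this]
  have move : ∀ n k, n ≤ k → ∀ z : (St n).Q, ∃ z' : (St k).Q, (St k).c z' = (St n).c z ∧ ψ k z' = ψ n z := by
    intro n k h
    induction h with
    | refl => exact fun z => ⟨z, rfl, rfl⟩
    | @step k _ ih =>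
      intro z
      obtain ⟨z', h1, h2⟩ := ih z
      exact ⟨U k z', (LinearMap.congr_fun (hU k) z').trans h1, (LinearMap.congr_fun (hψ k) z').trans h2⟩
  have huniq : ∀ n z n' z', (St n).c z = (St n').c z' → ψ n z = ψ n' z' := by
    intro n z n' z' h
    obtain ⟨a, ha1, ha2⟩ := move n _ (le_max_left n n') z
    obtain ⟨a', ha1', ha2'⟩ := move n' _ (le_max_right n n') z'
    rw [← ha2, ← ha2', ← sub_eq_zero, ← map_sub]
    exact hinj _ _ (by rw [map_sub, ha1, ha1', h, sub_self])
  let S : Submodule R M :=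
    { carrier := {m | ∃ n z, (St n).c z = m}
      add_mem' := by
        rintro _ _ ⟨n, z, rfl⟩ ⟨n', z', rfl⟩
        obtain ⟨a, ha, -⟩ := move n _ (le_max_left n n') z
        obtain ⟨a', ha', -⟩ := move n' _ (le_max_right n n') z'
        exact ⟨_, a + a', by rw [map_add, ha, ha']⟩
      zero_mem' := ⟨0, 0, map_zero _⟩
      smul_mem' := by
        rintro r _ ⟨n, z, rfl⟩
        exact ⟨n, r • z, map_smul _ _ _⟩ }
  have hsurj : ∀ m, ∃ n z, (St n).c z = m := fun m => by
    have : Submodule.span R (Set.range e) ≤ S := Submodule.span_le.mpr (by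
      rintro _ ⟨n, rfl⟩
      exact ⟨n + 1, hmem (St n) (e n)⟩)
    exact this (hspan' ▸ Submodule.mem_top)
  choose N Z hZ using hsurj
  let b : M →ₗ[R] (St 1).Q :=
    { toFun := fun m => ψ (N m) (Z m)
      map_add' := fun m m' => by
        obtain ⟨a, ha, ha2⟩ := move (N m) _ (le_max_left _ (N m')) (Z m)
        obtain ⟨a', ha', ha2'⟩ := move (N m') _ (le_max_right (N m) _) (Z m')
        rw [← ha2, ← ha2', ← map_add]
        exact huniq _ _ _ _ (by rw [hZ, map_add, ha, ha', hZ, hZ])
      map_smul' := fun r m => by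
        rw [RingHom.id_apply, ← map_smul]
        exact huniq _ _ _ _ (by rw [hZ, map_smul, hZ]) }
  refine ⟨(St 1).Q, inferInstance, inferInstance, inferInstance, b, (St 1).c, LinearMap.ext fun x => ?_⟩
  obtain ⟨v, rfl⟩ := hπ x
  change (St 1).c (ψ (N ((St 0).c v)) (Z ((St 0).c v))) = (St 0).c v
  rw [huniq _ _ 0 v (hZ _)]
  exact LinearMap.congr_fun (hU 0) v

end Groth.Agent.CAlgBasics
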