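import Mathlib
import Groth.Agent.CAlgBasics.MittagLeffler

/-! Applications of the domination criterion for Mittag-Leffler modules. -/

namespace Groth.Agent.CAlgBasics

open TensorProduct

universe u v w

variable {R : Type u} [CommRing R]

theorem finitePresentation_tensorProduct (P : Type v) (Q : Type w) [AddCommGroup P] [Module R P]
    [Module.FinitePresentation R P] [AddCommGroup Q] [Module R Q] [Module.FinitePresentation R Q] :
    Module.FinitePresentation R (P ⊗[R] Q) := by
  classical
  obtain ⟨n, m, π, T, hπ, hex⟩ := Module.FinitePresentation.exists_fin' R P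
  haveI : Module.FinitePresentation R ((Fin n → R) ⊗[R] Q) :=
    Module.FinitePresentation.of_equiv ((TensorProduct.comm R _ _ ≪≫ₗ TensorProduct.piScalarRight R R Q (Fin n)).symm)
  refine Module.finitePresentation_of_surjective (π.rTensor Q) (LinearMap.rTensor_surjective Q hπ) ?_
  rw [(rTensor_exact Q hex hπ).linearMap_ker_eq, LinearMap.range_eq_map]
  exact Submodule.FG.map _ Module.Finite.fg_top

theorem ker_rTensor_comp_eq {A B C D : Type*} [AddCommGroup A] [Module R A] [AddCommGroup B] [Module R B]
    [AddCommGroup C] [Module R C] [AddCommGroup D] [Module R D] {T : Type*} [AddCommGroup T] [Module R T]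
    (a : A →ₗ[R] B) (f : B →ₗ[R] C) (g : B →ₗ[R] D)
    (h : LinearMap.ker (f.rTensor T) = LinearMap.ker (g.rTensor T)) :
    LinearMap.ker ((f ∘ₗ a).rTensor T) = LinearMap.ker ((g ∘ₗ a).rTensor T) := by
  rw [LinearMap.rTensor_comp, LinearMap.rTensor_comp, LinearMap.ker_comp, LinearMap.ker_comp, h]

/-- The kernels on a third tensor factor. -/
theorem ker_map_eq {P P' M N Q Q' : Type u} [AddCommGroup P] [Module R P] [AddCommGroup P'] [Module R P']
    [AddCommGroup M] [Module R M] [AddCommGroup N] [Module R N] [AddCommGroup Q] [Module R Q]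
    [AddCommGroup Q'] [Module R Q'] (a : P →ₗ[R] M) (g : P →ₗ[R] Q) (a' : P' →ₗ[R] N) (g' : P' →ₗ[R] Q')
    (h : ∀ (T : Type u) [AddCommGroup T] [Module R T], LinearMap.ker (a.rTensor T) = LinearMap.ker (g.rTensor T))
    (h' : ∀ (T : Type u) [AddCommGroup T] [Module R T], LinearMap.ker (a'.rTensor T) = LinearMap.ker (g'.rTensor T))
    (T : Type u) [AddCommGroup T] [Module R T] :
    LinearMap.ker ((TensorProduct.map a a').rTensor T) = LinearMap.ker ((TensorProduct.map g g').rTensor T) := by
  have key : ∀ {X : Type u} [AddCommGroup X] [Module R X] {P Y Z : Type u} [AddCommGroup P] [Module R P]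
      [AddCommGroup Y] [Module R Y] [AddCommGroup Z] [Module R Z] (a : P →ₗ[R] Y) (g : P →ₗ[R] Z),
      LinearMap.ker (a.rTensor (X ⊗[R] T)) = LinearMap.ker (g.rTensor (X ⊗[R] T)) →
      LinearMap.ker ((a.rTensor X).rTensor T) = LinearMap.ker ((g.rTensor X).rTensor T) := by
    intro X _ _ P Y Z _ _ _ _ _ _ a g hag
    ext z
    have e : ∀ {W : Type u} [AddCommGroup W] [Module R W] (b : P →ₗ[R] W) (z : (P ⊗[R] X) ⊗[R] T),
        TensorProduct.assoc R W X T ((b.rTensor X).rTensor T z) = b.rTensor _ (TensorProduct.assoc R P X T z) := by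
      intro W _ _ b z
      induction z with
      | zero => simp
      | tmul px t =>
        induction px with
        | zero => simp
        | tmul p x => simp
        | add p q hp hq => simp only [add_tmul, map_add, hp, hq]
      | add p q hp hq => simp only [map_add, hp, hq]
    rw [LinearMap.mem_ker, LinearMap.mem_ker, ← (TensorProduct.assoc R Y X T).map_eq_zero_iff,
      ← (TensorProduct.assoc R Z X T).map_eq_zero_iff, e, e, ← LinearMap.mem_ker, hag, LinearMap.mem_ker]
  have key' : ∀ {X : Type u} [AddCommGroup X] [Module R X] {P Y Z : Type u} [AddCommGroup P] [Module R P]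
      [AddCommGroup Y] [Module R Y] [AddCommGroup Z] [Module R Z] (a : P →ₗ[R] Y) (g : P →ₗ[R] Z),
      LinearMap.ker (a.rTensor (X ⊗[R] T)) = LinearMap.ker (g.rTensor (X ⊗[R] T)) →
      LinearMap.ker ((a.lTensor X).rTensor T) = LinearMap.ker ((g.lTensor X).rTensor T) := by
    intro X _ _ P Y Z _ _ _ _ _ _ a g hag
    have hk := key a g hag
    ext z
    have e : ∀ {W : Type u} [AddCommGroup W] [Module R W] (b : P →ₗ[R] W) (z : (X ⊗[R] P) ⊗[R] T),
        (TensorProduct.comm R X W).toLinearMap.rTensor T ((b.lTensor X).rTensor T z) =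
          (b.rTensor X).rTensor T ((TensorProduct.comm R X P).toLinearMap.rTensor T z) := by
      intro W _ _ b z
      induction z with
      | zero => simp
      | tmul px t =>
        induction px with
        | zero => simp
        | tmul p x => simp
        | add p q hp hq => simp only [add_tmul, map_add, hp, hq]
      | add p q hp hq => simp only [map_add, hp, hq]
    rw [LinearMap.mem_ker, LinearMap.mem_ker, ← ((TensorProduct.comm R X Y).rTensor T).map_eq_zero_iff,
      ← ((TensorProduct.comm R X Z).rTensor T).map_eq_zero_iff]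
    change (TensorProduct.comm R X Y).toLinearMap.rTensor T _ = 0 ↔ (TensorProduct.comm R X Z).toLinearMap.rTensor T _ = 0
    rw [e, e, ← LinearMap.mem_ker, hk, LinearMap.mem_ker]
  have e1 : LinearMap.ker ((TensorProduct.map a a').rTensor T) = LinearMap.ker ((TensorProduct.map g a').rTensor T) := by
    rw [← LinearMap.rTensor_comp_lTensor, ← LinearMap.rTensor_comp_lTensor]
    exact ker_rTensor_comp_eq _ _ _ (key a g (h _))
  rw [e1, ← LinearMap.lTensor_comp_rTensor, ← LinearMap.lTensor_comp_rTensor]
  exact ker_rTensor_comp_eq _ _ _ (key' a' g' (h' _))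

/-- The tensor product of Mittag-Leffler modules is Mittag-Leffler. -/
theorem isMittagLeffler_tensor {M N : Type u} [AddCommGroup M] [Module R M] [AddCommGroup N] [Module R N]
    (hM : CAlg.IsMittagLeffler R M) (hN : CAlg.IsMittagLeffler R N) : CAlg.IsMittagLeffler R (M ⊗[R] N) := by
  classical
  refine isMittagLeffler_of_forall_free fun n f => ?_
  choose T hT using fun a : Fin n => TensorProduct.exists_finset (f (Pi.single a 1))
  let S := Finset.univ.biUnion T
  let e := S.equivFin
  let a : (Fin S.card → R) →ₗ[R] M := Fintype.linearCombination R fun i => (e.symm i).1.1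
  let a' : (Fin S.card → R) →ₗ[R] N := Fintype.linearCombination R fun i => (e.symm i).1.2
  obtain ⟨Q, _, _, _, g, -, -, hg⟩ := exists_factor_sameKer hM a
  obtain ⟨Q', _, _, _, g', -, -, hg'⟩ := exists_factor_sameKer hN a'
  have hmem : ∀ i : Fin n, f (Pi.single i 1) ∈ LinearMap.range (TensorProduct.map a a') := by
    intro i
    rw [hT i]
    refine Submodule.sum_mem _ fun x hx => ?_
    have hxS : x ∈ S := Finset.mem_biUnion.mpr ⟨i, Finset.mem_univ i, hx⟩
    refine ⟨Pi.single (e ⟨x, hxS⟩) 1 ⊗ₜ Pi.single (e ⟨x, hxS⟩) 1, ?_⟩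
    simp [a, a', Fintype.linearCombination_apply_single]
  choose r hr using hmem
  let f₀ : (Fin n → R) →ₗ[R] (Fin S.card → R) ⊗[R] (Fin S.card → R) := Fintype.linearCombination R r
  have hf : TensorProduct.map a a' ∘ₗ f₀ = f := by
    refine LinearMap.ext fun v => ?_
    conv_rhs => rw [pi_eq_sum_univ' v, map_sum]
    simp [f₀, Fintype.linearCombination_apply, hr]
  haveI := finitePresentation_tensorProduct (R := R) Q Q'
  refine ⟨Q ⊗[R] Q', inferInstance, inferInstance, inferInstance, TensorProduct.map g g' ∘ₗ f₀, fun T _ _ => ?_⟩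
  rw [← hf]
  exact ker_rTensor_comp_eq _ _ _ (ker_map_eq a g a' g' (fun T => hg T) (fun T => hg' T) T)

/-- Restriction of scalars along finitely presented modules. -/
theorem isMittagLeffler_restrictScalars (S : Type u) [CommRing S] [Algebra R S] [Module.FinitePresentation R S]
    {M : Type u} [AddCommGroup M] [Module S M] [Module R M] [IsScalarTower R S M]
    (hM : CAlg.IsMittagLeffler S M) : CAlg.IsMittagLeffler R M := by
  classical
  refine isMittagLeffler_of_forall_free fun n f => ?_
  let F : (Fin n → S) →ₗ[S] M := Fintype.linearCombination S fun a => f (Pi.single a 1)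
  obtain ⟨Q, _, _, _, G, -, -, hG⟩ := exists_factor_sameKer hM F
  letI : Module R Q := Module.compHom Q (algebraMap R S)
  haveI : IsScalarTower R S Q := IsScalarTower.of_algebraMap_smul fun _ _ => rfl
  haveI : Module.FinitePresentation R Q := Module.FinitePresentation.trans R (M := Q) S
  let i : (Fin n → R) →ₗ[R] (Fin n → S) := (Algebra.linearMap R S).compLeft (Fin n)
  refine ⟨Q, inferInstance, inferInstance, inferInstance, (G.restrictScalars R) ∘ₗ i, fun T _ _ => ?_⟩
  have hf : f = (F.restrictScalars R) ∘ₗ i := by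
    refine LinearMap.ext fun v => ?_
    conv_lhs => rw [pi_eq_sum_univ' v, map_sum]
    simp [F, i, Fintype.linearCombination_apply]
  rw [hf]
  refine ker_rTensor_comp_eq _ _ _ ?_
  have key : ∀ {X : Type u} [AddCommGroup X] [Module S X] [Module R X] [IsScalarTower R S X]
      (K : (Fin n → S) →ₗ[S] X) (z : (Fin n → S) ⊗[S] (S ⊗[R] T)),
      AlgebraTensorModule.cancelBaseChange R S S X T (K.rTensor _ z) =
        (K.restrictScalars R).rTensor T (AlgebraTensorModule.cancelBaseChange R S S (Fin n → S) T z) := by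
    intro X _ _ _ _ K z
    induction z with
    | zero => simp
    | tmul p st =>
      induction st with
      | zero => simp
      | tmul s t => simp
      | add a b ha hb => simp only [tmul_add, map_add, ha, hb]
    | add a b ha hb => simp only [map_add, ha, hb]
  ext z
  obtain ⟨z, rfl⟩ := (AlgebraTensorModule.cancelBaseChange R S S (Fin n → S) T).surjective z
  rw [LinearMap.mem_ker, LinearMap.mem_ker, ← key, ← key, LinearEquiv.map_eq_zero_iff,
    LinearEquiv.map_eq_zero_iff, ← LinearMap.mem_ker, hG, LinearMap.mem_ker]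

theorem isMittagLeffler_of_quotient (I : Ideal R) {M : Type u} [AddCommGroup M] [Module (R ⧸ I) M]
    [Module R M] [IsScalarTower R (R ⧸ I) M] (hM : CAlg.IsMittagLeffler R M) :
    CAlg.IsMittagLeffler (R ⧸ I) M := by
  intro ι Q _ _
  letI : ∀ i, Module R (Q i) := fun i => Module.compHom (Q i) (Ideal.Quotient.mk I)
  haveI : ∀ i, IsScalarTower R (R ⧸ I) (Q i) := fun i => IsScalarTower.of_algebraMap_smul fun _ _ => rfl
  have hcs : ∀ (X : Type u) [AddCommGroup X] [Module (R ⧸ I) X] [Module R X] [IsScalarTower R (R ⧸ I) X],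
      TensorProduct.CompatibleSMul R (R ⧸ I) M X := fun X _ _ _ _ => ⟨fun r m n => by
    obtain ⟨r, rfl⟩ := Ideal.Quotient.mk_surjective r
    rw [show (Ideal.Quotient.mk I r) • m = r • m from algebraMap_smul (R ⧸ I) r m,
      show (Ideal.Quotient.mk I r) • n = r • n from algebraMap_smul (R ⧸ I) r n, smul_tmul]⟩
  have hcs' : ∀ (X : Type u) [AddCommGroup X] [Module (R ⧸ I) X] [Module R X] [IsScalarTower R (R ⧸ I) X],
      TensorProduct.CompatibleSMul (R ⧸ I) R M X := fun X _ _ _ _ => ⟨fun r m n => by
    rw [← algebraMap_smul (R ⧸ I) r m, ← algebraMap_smul (R ⧸ I) r n, smul_tmul]⟩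
  haveI := hcs (∀ i, Q i)
  haveI := hcs' (∀ i, Q i)
  haveI := fun i => hcs (Q i)
  refine (injective_iff_map_eq_zero _).mpr fun x hx => ?_
  obtain ⟨T, rfl⟩ := TensorProduct.exists_finset x
  have h0 : piRightHom R R M Q (∑ i ∈ T, i.1 ⊗ₜ[R] i.2) = 0 := by
    funext i
    have := congrArg (TensorProduct.mapOfCompatibleSMul R (R ⧸ I) R M (Q i)) (congrFun hx i)
    simpa [map_sum, Finset.sum_apply] using this
  have h1 := (injective_iff_map_eq_zero _).mp (hM ι Q) _ h0
  have := congrArg (TensorProduct.mapOfCompatibleSMul (R ⧸ I) R R M (∀ i, Q i)) h1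
  simpa using this

/-- Smallest-submodule criterion for flat modules. -/
theorem exists_smallest_of_isMittagLeffler {M : Type u} [AddCommGroup M] [Module R M] [Module.Flat R M]
    (hM : CAlg.IsMittagLeffler R M) {F : Type u} [AddCommGroup F] [Module R F] (x : F ⊗[R] M) :
    ∃ F' : Submodule R F, x ∈ LinearMap.range (F'.subtype.rTensor M) ∧
      ∀ F'' : Submodule R F, x ∈ LinearMap.range (F''.subtype.rTensor M) → F' ≤ F'' := by
  classical
  let J := {F'' : Submodule R F // x ∈ LinearMap.range (F''.subtype.rTensor M)}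
  let Φ : F →ₗ[R] (∀ j : J, F ⧸ j.1) := LinearMap.pi fun j => j.1.mkQ
  refine ⟨LinearMap.ker Φ, ?_, fun F'' h v hv => ?_⟩
  · have hex : Function.Exact (LinearMap.ker Φ).subtype Φ := fun v => ⟨fun h => ⟨⟨v, h⟩, rfl⟩, fun ⟨w, hw⟩ => hw ▸ w.2⟩
    refine (Module.Flat.rTensor_exact M hex x).mp ?_
    apply (TensorProduct.comm R (∀ j : J, F ⧸ j.1) M).injective
    rw [map_zero]
    refine (injective_iff_map_eq_zero _).mp (hM J fun j => F ⧸ j.1) _ (funext fun j => ?_)
    have hj : j.1.mkQ.rTensor M x = 0 := by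
      obtain ⟨w, hw⟩ := j.2
      refine (congrArg _ hw.symm).trans ?_
      rw [← LinearMap.rTensor_comp_apply, show j.1.mkQ ∘ₗ j.1.subtype = 0 by ext v; simp,
        LinearMap.rTensor_zero, LinearMap.zero_apply]
    have := congrArg (TensorProduct.comm R _ M) hj
    rw [map_zero] at this
    rw [Pi.zero_apply, ← this]
    have gen : ∀ z : F ⊗[R] M, piRightHom R R M (fun j : J => F ⧸ j.1)
        (TensorProduct.comm R _ M (Φ.rTensor M z)) j = TensorProduct.comm R _ M (j.1.mkQ.rTensor M z) := by
      intro z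
      induction z with
      | zero => simp
      | tmul p m => simp [Φ]
      | add a b ha hb => simp only [map_add, Pi.add_apply, ha, hb]
    exact gen x
  · have := congrFun (LinearMap.mem_ker.mp hv) ⟨F'', h⟩
    simpa [Φ] using this

theorem isMittagLeffler_of_smallest {M : Type u} [AddCommGroup M] [Module R M] [Module.Flat R M]
    (H : ∀ (n : ℕ) (x : (Fin n → R) ⊗[R] M), ∃ F' : Submodule R (Fin n → R),
        x ∈ LinearMap.range (F'.subtype.rTensor M) ∧
        ∀ F'' : Submodule R (Fin n → R), x ∈ LinearMap.range (F''.subtype.rTensor M) → F' ≤ F'') :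
    CAlg.IsMittagLeffler R M := by
  classical
  intro ι Q _ _
  refine (injective_iff_map_eq_zero _).mpr fun y hy => ?_
  obtain ⟨T, rfl⟩ := TensorProduct.exists_finset y
  let e := T.equivFin
  let x : (Fin T.card → R) ⊗[R] M := ∑ a, Pi.single a (1 : R) ⊗ₜ (e.symm a).1.1
  let ψ : (Fin T.card → R) →ₗ[R] (∀ i, Q i) := Fintype.linearCombination R fun a => (e.symm a).1.2
  obtain ⟨F', hF', hmin⟩ := H T.card x
  have hx : TensorProduct.comm R _ M (ψ.rTensor M x) = ∑ i ∈ T, i.1 ⊗ₜ[R] i.2 := by
    rw [← Finset.sum_coe_sort T, ← Equiv.sum_comp e.symm (fun i : T => i.1.1 ⊗ₜ[R] i.1.2)]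
    simp [x, ψ, map_sum, Fintype.linearCombination_apply_single]
  have hle : F' ≤ LinearMap.ker ψ := fun v hv => by
    rw [LinearMap.mem_ker]
    funext i
    have hex : Function.Exact (LinearMap.ker (LinearMap.proj i ∘ₗ ψ)).subtype (LinearMap.proj i ∘ₗ ψ) :=
      fun v => ⟨fun h => ⟨⟨v, h⟩, rfl⟩, fun ⟨w, hw⟩ => hw ▸ w.2⟩
    have hker : x ∈ LinearMap.range ((LinearMap.ker (LinearMap.proj i ∘ₗ ψ)).subtype.rTensor M) := by
      refine (Module.Flat.rTensor_exact M hex x).mp ?_
      apply (TensorProduct.comm R (Q i) M).injective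
      rw [map_zero]
      have := congrFun hy i
      rw [Pi.zero_apply] at this
      rw [← this, ← hx]
      simp [x, map_sum, Finset.sum_apply]
    exact hmin _ hker hv
  obtain ⟨w, hw⟩ := hF'
  rw [← hx, ← hw, ← LinearMap.rTensor_comp_apply,
    show ψ ∘ₗ F'.subtype = 0 from LinearMap.ext fun v => hle v.2, LinearMap.rTensor_zero,
    LinearMap.zero_apply, map_zero]

section DirectLimit

variable {ι : Type u} [Preorder ι] [IsDirectedOrder ι] [Nonempty ι] [DecidableEq ι] {G : ι → Type u}
  [∀ i, AddCommGroup (G i)] [∀ i, Module R (G i)] {f : ∀ i j, i ≤ j → G i →ₗ[R] G j}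
  [DirectedSystem G fun i j h => f i j h]

theorem exists_eq_comp_of_eq {P : Type*} [AddCommGroup P] [Module R P] [Module.Finite R P] {i : ι}
    (a : P →ₗ[R] G i) (h : Module.DirectLimit.of R ι G f i ∘ₗ a = 0) :
    ∃ (j : ι) (hij : i ≤ j), f i j hij ∘ₗ a = 0 := by
  classical
  obtain ⟨n, p, hp⟩ := Module.Finite.exists_fin (R := R) (M := P)
  choose j hij hj using fun k => Module.DirectLimit.of.zero_exact (R := R) (f := f) (i := i) (x := a (p k)) (LinearMap.congr_fun h (p k))
  obtain ⟨J, hJ⟩ := Finite.exists_le (α := ι) (fun k : Option (Fin n) => k.elim i j)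
  refine ⟨J, hJ none, LinearMap.ext fun x => ?_⟩
  have hx : x ∈ Submodule.span R (Set.range p) := hp ▸ Submodule.mem_top
  refine Submodule.span_induction ?_ (map_zero _) (fun a b _ _ ha hb => by rw [map_add, ha, hb]; simp)
    (fun c a _ ha => by rw [map_smul, ha]; simp) hx
  rintro _ ⟨k, rfl⟩
  rw [LinearMap.comp_apply, ← DirectedSystem.map_map (f := fun i j h => f i j h) (hij k) (hJ (some k))]
  simp [hj k]

theorem exists_lift_directLimit {P : Type*} [AddCommGroup P] [Module R P] [Module.FinitePresentation R P]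
    (c : P →ₗ[R] Module.DirectLimit G f) :
    ∃ (j : ι) (d : P →ₗ[R] G j), Module.DirectLimit.of R ι G f j ∘ₗ d = c := by
  classical
  obtain ⟨n, m, π, T, hπ, hex⟩ := Module.FinitePresentation.exists_fin' R P
  choose j x hx using fun k => Module.DirectLimit.exists_of (c (π (Pi.single k 1)))
  obtain ⟨i₀⟩ := ‹Nonempty ι›
  obtain ⟨i, hi⟩ := Finite.exists_le (α := ι) (fun k : Option (Fin n) => k.elim i₀ j)
  let a : (Fin n → R) →ₗ[R] G i := Fintype.linearCombination R fun k => f (j k) i (hi (some k)) (x k)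
  have ha : Module.DirectLimit.of R ι G f i ∘ₗ a = c ∘ₗ π := by
    refine LinearMap.ext fun v => ?_
    rw [LinearMap.comp_apply, LinearMap.comp_apply]
    conv_rhs => rw [pi_eq_sum_univ' v, map_sum, map_sum]
    simp [a, Fintype.linearCombination_apply, Module.DirectLimit.of_f, hx]
  obtain ⟨J, hiJ, hJ⟩ := exists_eq_comp_of_eq (a ∘ₗ T) <| by
    rw [← LinearMap.comp_assoc, ha, LinearMap.comp_assoc,
      show π ∘ₗ T = 0 from LinearMap.ext fun v => (hex _).mpr ⟨v, rfl⟩, LinearMap.comp_zero]
  have hle : LinearMap.ker π ≤ LinearMap.ker (f i J hiJ ∘ₗ a) := fun v hv => by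
    obtain ⟨w, rfl⟩ := (hex v).mp hv
    exact LinearMap.congr_fun hJ w
  refine ⟨J, (LinearMap.ker π).liftQ _ hle ∘ₗ (π.quotKerEquivOfSurjective hπ).symm.toLinearMap,
    LinearMap.ext fun y => ?_⟩
  obtain ⟨v, rfl⟩ := hπ y
  have : (π.quotKerEquivOfSurjective hπ).symm (π v) = Submodule.Quotient.mk v := by
    rw [LinearEquiv.symm_apply_eq]; rfl
  simp only [LinearMap.comp_apply, LinearEquiv.coe_coe, this, Submodule.liftQ_apply, Module.DirectLimit.of_f]
  exact LinearMap.congr_fun ha v

theorem isMittagLeffler_directLimit_iff [∀ i, Module.FinitePresentation R (G i)] :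
    CAlg.IsMittagLeffler R (Module.DirectLimit G f) ↔
      ∀ i, ∃ (j : ι) (hij : i ≤ j), ∀ (k : ι) (hik : i ≤ k),
        ∃ h : G k →ₗ[R] G j, f i j hij = h ∘ₗ f i k hik := by
  classical
  constructor
  · intro hM i
    obtain ⟨Q, _, _, _, g, c, hcg, hg⟩ := exists_factor_sameKer hM (Module.DirectLimit.of R ι G f i)
    obtain ⟨j₀, d, hd⟩ := exists_lift_directLimit c
    obtain ⟨j₁, h0, h1⟩ := exists_ge_ge j₀ i
    obtain ⟨j, hj, hj'⟩ := exists_eq_comp_of_eq (f j₀ j₁ h0 ∘ₗ d ∘ₗ g - f i j₁ h1) <| by
      refine LinearMap.ext fun x => ?_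
      simp only [LinearMap.comp_apply, LinearMap.sub_apply, map_sub]
      erw [Module.DirectLimit.of_f, Module.DirectLimit.of_f]
      rw [show Module.DirectLimit.of R ι G f j₀ (d (g x)) = c (g x) from LinearMap.congr_fun hd _,
        show c (g x) = Module.DirectLimit.of R ι G f i x from LinearMap.congr_fun hcg x, sub_self]
      rfl
    refine ⟨j, h1.trans hj, fun k hik => ?_⟩
    have hfij : f i j (h1.trans hj) = (f j₀ j (h0.trans hj) ∘ₗ d) ∘ₗ g := by
      refine LinearMap.ext fun x => ?_
      have := LinearMap.congr_fun hj' x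
      simp only [LinearMap.comp_apply, LinearMap.sub_apply, map_sub, LinearMap.zero_apply, sub_eq_zero] at this
      rw [DirectedSystem.map_map (f := fun i j h => f i j h) h0 hj,
        DirectedSystem.map_map (f := fun i j h => f i j h) h1 hj] at this
      exact this.symm
    haveI : Module.FinitePresentation R (G j) := inferInstance
    haveI : Module.FinitePresentation R (G k ⧸ LinearMap.range (f i k hik)) :=
      Module.finitePresentation_of_surjective _ (Submodule.mkQ_surjective _)
        (by rw [Submodule.ker_mkQ, LinearMap.range_eq_map]; exact Submodule.FG.map _ Module.Finite.fg_top)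
    refine exists_comp_eq_of_dominates _ _ fun N _ _ z hz => ?_
    rw [LinearMap.mem_ker] at hz ⊢
    have hik' : Module.DirectLimit.of R ι G f k ∘ₗ f i k hik = Module.DirectLimit.of R ι G f i :=
      LinearMap.ext fun x => Module.DirectLimit.of_f
    have h2 : z ∈ LinearMap.ker ((Module.DirectLimit.of R ι G f i).rTensor N) := by
      rw [LinearMap.mem_ker, ← hik', LinearMap.rTensor_comp_apply, hz, map_zero]
    rw [hg N, LinearMap.mem_ker] at h2
    rw [hfij, LinearMap.rTensor_comp_apply, h2, map_zero]
  · intro H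
    refine isMittagLeffler_of_forall_free fun n a => ?_
    haveI : Module.FinitePresentation R (Fin n → R) := inferInstance
    obtain ⟨i, a', ha'⟩ := exists_lift_directLimit a
    obtain ⟨j, hij, hj⟩ := H i
    refine ⟨G j, inferInstance, inferInstance, inferInstance, f i j hij ∘ₗ a', fun N _ _ => le_antisymm ?_ ?_⟩
    · intro z hz
      rw [← ha', LinearMap.mem_ker, LinearMap.rTensor_comp_apply] at hz
      obtain ⟨Q, _, _, _, g, c, hcg, hg⟩ := exists_factor_vanish (Module.DirectLimit.of R ι G f i) _ hz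
      obtain ⟨k₀, d, hd⟩ := exists_lift_directLimit c
      obtain ⟨k₁, h0, h1⟩ := exists_ge_ge k₀ i
      obtain ⟨k, hk, hk'⟩ := exists_eq_comp_of_eq (f k₀ k₁ h0 ∘ₗ d ∘ₗ g - f i k₁ h1) <| by
        refine LinearMap.ext fun x => ?_
        simp only [LinearMap.comp_apply, LinearMap.sub_apply, map_sub]
        erw [Module.DirectLimit.of_f, Module.DirectLimit.of_f]
        rw [show Module.DirectLimit.of R ι G f k₀ (d (g x)) = c (g x) from LinearMap.congr_fun hd _,
          show c (g x) = Module.DirectLimit.of R ι G f i x from LinearMap.congr_fun hcg x, sub_self]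
        rfl
      have hfik : f i k (h1.trans hk) = (f k₀ k (h0.trans hk) ∘ₗ d) ∘ₗ g := by
        refine LinearMap.ext fun x => ?_
        have := LinearMap.congr_fun hk' x
        simp only [LinearMap.comp_apply, LinearMap.sub_apply, map_sub, LinearMap.zero_apply, sub_eq_zero] at this
        rw [DirectedSystem.map_map (f := fun i j h => f i j h) h0 hk,
          DirectedSystem.map_map (f := fun i j h => f i j h) h1 hk] at this
        exact this.symm
      obtain ⟨h, hh⟩ := hj k (h1.trans hk)
      rw [LinearMap.mem_ker, LinearMap.rTensor_comp_apply, hh, hfik, LinearMap.rTensor_comp_apply,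
        LinearMap.rTensor_comp_apply, hg, map_zero, map_zero]
    · intro z hz
      rw [LinearMap.mem_ker] at hz ⊢
      have : a = Module.DirectLimit.of R ι G f j ∘ₗ (f i j hij ∘ₗ a') := by
        rw [← ha']
        exact LinearMap.ext fun x => Module.DirectLimit.of_f.symm
      rw [this, LinearMap.rTensor_comp_apply, hz, map_zero]

end DirectLimit

end Groth.Agent.CAlgBasics
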