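import Mathlib

/-!
For a faithfully flat `R`-algebra `S` and a prime `p` of `R`: a prime of `S` minimal over `pS` lies over `p`,
has the height of `p`, and its local ring is faithfully flat over `R_p` with zero-dimensional closed fibre.
-/

namespace Groth.Agent.CAlgBasics.FlatPrime

open IsLocalRing

universe u

variable (R S : Type u) [CommRing R] [CommRing S] [Algebra R S]

theorem exists_minimal_over [Module.FaithfullyFlat R S] (p : Ideal R) [p.IsPrime] :
    ∃ P : Ideal S, P.IsPrime ∧ P.LiesOver p ∧ P ∈ (p.map (algebraMap R S)).minimalPrimes := by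
  obtain ⟨⟨Q, hQ⟩, hQp⟩ := PrimeSpectrum.comap_surjective_of_faithfullyFlat (A := R) (B := S)
    ⟨p, inferInstance⟩
  have hle : p.map (algebraMap R S) ≤ Q :=
    Ideal.map_le_iff_le_comap.2 (congrArg PrimeSpectrum.asIdeal hQp).ge
  obtain ⟨P, hP, hPQ⟩ := Ideal.exists_minimalPrimes_le hle
  have : P.IsPrime := hP.1.1
  refine ⟨P, hP.1.1, ⟨?_⟩, hP⟩
  refine le_antisymm (Ideal.map_le_iff_le_comap.1 hP.1.2) ?_
  exact (Ideal.comap_mono hPQ).trans (congrArg PrimeSpectrum.asIdeal hQp).le

variable {R S} {p : Ideal R} [p.IsPrime] {P : Ideal S} [P.IsPrime] [P.LiesOver p]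

theorem height_eq [IsNoetherianRing R] [IsNoetherianRing S] [Module.Flat R S]
    (hP : P ∈ (p.map (algebraMap R S)).minimalPrimes) : P.height = p.height := by
  rw [Ideal.height_eq_height_add_of_liesOver_of_hasGoingDown p P]
  set I := p.map (algebraMap R S)
  have hk : RingHom.ker (Ideal.Quotient.mk I) ≤ P := by rw [Ideal.mk_ker]; exact hP.1.2
  have hmap : (P.map (Ideal.Quotient.mk I)).IsPrime :=
    Ideal.map_isPrime_of_surjective Ideal.Quotient.mk_surjective hk
  have hc : (P.map (Ideal.Quotient.mk I)).comap (Ideal.Quotient.mk I) = P :=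
    Ideal.comap_map_mk hP.1.2
  have : (P.map (Ideal.Quotient.mk I)).height = 0 := by
    rw [Ideal.height_eq_zero_iff]
    refine ⟨⟨hmap, bot_le⟩, fun Q hQ hQle => ?_⟩
    have h1 : Q.comap (Ideal.Quotient.mk I) ≤ P := (Ideal.comap_mono hQle).trans hc.le
    have h2 : I ≤ Q.comap (Ideal.Quotient.mk I) := fun x hx => by
      rw [Ideal.mem_comap, Ideal.Quotient.eq_zero_iff_mem.2 hx]; exact zero_mem _
    have := hP.2 ⟨hQ.1.comap _, h2⟩ h1
    rw [Ideal.map_le_iff_le_comap]
    exact this
  rw [this, add_zero]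

end Groth.Agent.CAlgBasics.FlatPrime
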