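import Mathlib
import Groth.Agent.Depth.Basic

/-!
The depth along an ideal only depends on its radical: comparison with an ideal between some power and itself.
-/

namespace Groth.Agent.CAlgBasics

open LocCoh Groth.Agent.Depth

universe u

theorem idealDepth_eq_of_pow_le {R : Type u} [CommRing R] [IsNoetherianRing R]
    {M : Type u} [AddCommGroup M] [Module R M] [Module.Finite R M] {J I : Ideal R}
    (hI : I • (⊤ : Submodule R M) ≠ ⊤) (hJI : J ≤ I) {n : ℕ} (hn : I ^ n ≤ J) :
    idealDepth J M = idealDepth I M := by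
  have hJ : J • (⊤ : Submodule R M) ≠ ⊤ := fun h =>
    hI (top_le_iff.1 (h.ge.trans (Submodule.smul_mono_left hJI)))
  obtain ⟨rs, hrs⟩ := exists_isMaxSeq (M := M) hJ
  obtain ⟨hw, hm, x, hx, hx'⟩ := hrs
  rw [idealDepth_eq_length hJ ⟨hw, hm, x, hx, hx'⟩]
  refine (idealDepth_eq_length hI ⟨hw, fun r hr => hJI (hm r hr), ?_⟩).symm
  set N := Ideal.ofList rs • (⊤ : Submodule R M)
  have key : ∀ k : ℕ, ∀ z : M, z ∉ N → (∀ r ∈ I ^ k, r • z ∈ N) →
      ∃ y, y ∉ N ∧ ∀ r ∈ I, r • y ∈ N := by
    intro k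
    induction k with
    | zero =>
      intro z hz h
      exact absurd (by simpa using h 1 (by simp)) hz
    | succ k ih =>
      intro z hz h
      by_cases hk : ∀ r ∈ I ^ k, r • z ∈ N
      · exact ih z hz hk
      · push Not at hk
        obtain ⟨a, ha, haz⟩ := hk
        refine ⟨a • z, haz, fun r hr => ?_⟩
        rw [smul_smul]
        exact h _ (by rw [pow_succ']; exact Ideal.mul_mem_mul hr ha)
  exact key n x hx fun r hr => hx' r (hn hr)

end Groth.Agent.CAlgBasics
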