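import Mathlib

/-! Noetherian domains with a nonzero element in every nonzero prime have dimension at most one. -/

namespace Groth.Agent.CAlgBasics

variable {D : Type*} [CommRing D] [IsDomain D] [IsNoetherianRing D]

theorem height_le_one_of_forall_mem (h : D) (hh : h ≠ 0)
    (hall : ∀ q : Ideal D, q.IsPrime → q ≠ ⊥ → h ∈ q) (P : Ideal D) [P.IsPrime] : P.height ≤ 1 := by
  have hmin : ∀ x : D, x ≠ 0 → ∀ Q ∈ (Ideal.span {x}).minimalPrimes, Q ∈ (Ideal.span {h}).minimalPrimes := by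
    intro x hx Q hQ
    haveI := hQ.1.1
    have hQ0 : Q ≠ ⊥ := fun e => hx (by simpa [e] using hQ.1.2 (Ideal.mem_span_singleton_self x))
    refine ⟨⟨hQ.1.1, (Ideal.span_singleton_le_iff_mem _).mpr (hall Q hQ.1.1 hQ0)⟩, fun q hq hqQ => ?_⟩
    haveI := hq.1
    rcases hqQ.lt_or_eq with hlt | heq
    · have h1 : q.height < 1 :=
        lt_of_lt_of_le (Ideal.height_strict_mono_of_isPrime_of_isPrime hlt) (Ideal.height_le_one_of_isPrincipal_of_mem_minimalPrimes (Ideal.span {x}) Q hQ)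
      rw [Order.lt_one_iff, Ideal.height_eq_zero_iff_eq_bot] at h1
      have := hq.2 (Ideal.mem_span_singleton_self h)
      rw [h1] at this
      exact absurd this hh
    · exact heq.ge
  by_cases hP : P = ⊥
  · subst hP
    rw [Ideal.height_bot]; exact zero_le_one
  have hcov : (P : Set D) ⊆ ⋃ Q ∈ {Q ∈ (Ideal.span {h}).minimalPrimes | Q ≤ P}, (Q : Set D) := by
    intro x hx
    by_cases hx0 : x = 0
    · subst hx0
      obtain ⟨Q, hQ, hQP⟩ := Ideal.exists_minimalPrimes_le (I := Ideal.span {h}) (J := P)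
        ((Ideal.span_singleton_le_iff_mem _).mpr (hall P inferInstance hP))
      exact Set.mem_biUnion (show Q ∈ _ from ⟨hQ, hQP⟩) Q.zero_mem
    · obtain ⟨Q, hQ, hQP⟩ := Ideal.exists_minimalPrimes_le (I := Ideal.span {x}) (J := P)
        ((Ideal.span_singleton_le_iff_mem _).mpr hx)
      exact Set.mem_biUnion (show Q ∈ _ from ⟨hmin x hx0 Q hQ, hQP⟩) (hQ.1.2 (Ideal.mem_span_singleton_self x))
  have hfin : {Q ∈ (Ideal.span {h}).minimalPrimes | Q ≤ P}.Finite :=
    (Ideal.finite_minimalPrimes_of_isNoetherianRing D _).subset (fun Q hQ => hQ.1)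
  obtain ⟨Q, hQ, hle⟩ := (Ideal.subset_union_prime_finite hfin (f := id) ⊤ ⊤ (fun Q hQ _ _ => hQ.1.1.1)).mp hcov
  haveI := hQ.1.1.1
  exact (Ideal.height_mono hle).trans (Ideal.height_le_one_of_isPrincipal_of_mem_minimalPrimes (Ideal.span {h}) Q hQ.1)

theorem ringKrullDim_le_one_of_forall_mem (h : D) (hh : h ≠ 0)
    (hall : ∀ q : Ideal D, q.IsPrime → q ≠ ⊥ → h ∈ q) : ringKrullDim D ≤ 1 := by
  rw [← Ideal.sup_height_eq_ringKrullDim]
  refine WithBot.coe_le_coe.mpr (iSup₂_le fun I hI => ?_)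
  obtain ⟨m, hm, hle⟩ := Ideal.exists_le_maximal I hI
  exact (Ideal.height_mono hle).trans (height_le_one_of_forall_mem h hh hall m)

theorem isMaximal_of_forall_mem (h : D) (hh : h ≠ 0)
    (hall : ∀ q : Ideal D, q.IsPrime → q ≠ ⊥ → h ∈ q) (P : Ideal D) [P.IsPrime] (hP : P ≠ ⊥) :
    P.IsMaximal ∧ P ∈ (Ideal.span {h}).minimalPrimes := by
  have h0 : ∀ q : Ideal D, q.IsPrime → q < P → q = ⊥ := by
    intro q hq hlt
    have h1 : q.height < 1 := lt_of_lt_of_le (Ideal.height_strict_mono_of_isPrime_of_isPrime hlt) (height_le_one_of_forall_mem h hh hall P)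
    rwa [Order.lt_one_iff, Ideal.height_eq_zero_iff_eq_bot] at h1
  refine ⟨?_, ⟨inferInstance, (Ideal.span_singleton_le_iff_mem _).mpr (hall P inferInstance hP)⟩, fun q hq hqP => ?_⟩
  · obtain ⟨m, hm, hle⟩ := Ideal.exists_le_maximal P (Ideal.IsPrime.ne_top inferInstance)
    rcases hle.lt_or_eq with hlt | heq
    · exfalso
      have h1 : P.height < 1 := lt_of_lt_of_le (Ideal.height_strict_mono_of_isPrime_of_isPrime hlt) (height_le_one_of_forall_mem h hh hall m)
      rw [Order.lt_one_iff, Ideal.height_eq_zero_iff_eq_bot] at h1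
      exact hP h1
    · exact heq ▸ hm
  · rcases hqP.lt_or_eq with hlt | heq
    · exact absurd (hq.2 (Ideal.mem_span_singleton_self h)) (by rw [h0 q hq.1 hlt]; simpa using hh)
    · exact heq.ge

end Groth.Agent.CAlgBasics
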