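import Mathlib
import Groth.Prelude.Def_CAlgX

/-! McCoy's theorem and universal injectivity over rings with property (P). -/

set_option autoImplicit false
universe u

open Matrix TensorProduct

namespace Groth.Agent.CAlgBasics

variable {R : Type u} [CommRing R] {m n : ℕ}

theorem minorIdeal_zero_eq_top (M : Matrix (Fin n) (Fin m) R) : CAlgX.minorIdeal M 0 = ⊤ :=
  (Ideal.eq_top_iff_one _).mpr (Ideal.subset_span ⟨(Fin.elim0, Fin.elim0), by simp⟩)

theorem minorIdeal_eq_bot_of_lt (M : Matrix (Fin n) (Fin m) R) {r : ℕ} (hr : m < r) : CAlgX.minorIdeal M r = ⊥ := by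
  refine Ideal.span_eq_bot.mpr ?_
  rintro d ⟨⟨f, g⟩, rfl⟩
  obtain ⟨i, j, hij, hg⟩ := Fintype.exists_ne_map_eq_of_card_lt g (by simpa using hr)
  exact Matrix.det_zero_of_column_eq hij fun a => by simp [hg]

/-- The easy direction of McCoy's theorem: `I_m` kills the kernel. -/
theorem minorIdeal_smul_eq_zero (M : Matrix (Fin n) (Fin m) R) {x : Fin m → R} (hx : M.mulVecLin x = 0)
    {d : R} (hd : d ∈ CAlgX.minorIdeal M m) : d • x = 0 := by
  induction hd using Submodule.span_induction with
  | zero => exact zero_smul R x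
  | add a b _ _ ha hb => rw [add_smul, ha, hb, add_zero]
  | smul r a _ ha => rw [smul_eq_mul, mul_smul, ha, smul_zero]
  | mem d hd =>
    obtain ⟨⟨f, g⟩, rfl⟩ := hd
    by_cases hg : Function.Injective g
    · let e := Equiv.ofBijective g (Finite.injective_iff_bijective.mp hg)
      have h0 : M.submatrix f g *ᵥ (x ∘ g) = 0 := by
        funext i
        have := congrFun hx (f i)
        simp only [Matrix.mulVecLin_apply, Matrix.mulVec, dotProduct, Pi.zero_apply] at this
        simp only [Matrix.mulVec, dotProduct, Matrix.submatrix_apply, Function.comp_apply, Pi.zero_apply]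
        rw [← this]
        exact Fintype.sum_equiv e _ _ fun j => rfl
      have h1 := congrArg ((M.submatrix f g).adjugate *ᵥ ·) h0
      simp only [Matrix.mulVec_mulVec, Matrix.adjugate_mul, Matrix.smul_mulVec, Matrix.one_mulVec,
        Matrix.mulVec_zero] at h1
      funext i
      obtain ⟨j, rfl⟩ := e.surjective i
      exact congrFun h1 j
    · obtain ⟨i, j, hij, hne⟩ := Function.not_injective_iff.mp hg
      have : (M.submatrix f g).det = 0 := Matrix.det_zero_of_column_eq hne fun a => by simp [hij]
      show (M.submatrix f g).det • x = 0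
      rw [this, zero_smul]

/-- McCoy's theorem. -/
theorem injective_iff_annihilator_minorIdeal (M : Matrix (Fin n) (Fin m) R) :
    Function.Injective M.mulVecLin ↔ (CAlgX.minorIdeal M m).annihilator = ⊥ := by
  constructor
  · intro h
    rw [eq_bot_iff]
    intro a ha
    rw [Ideal.mem_bot]
    by_contra ha0
    rw [Submodule.mem_annihilator] at ha
    classical
    have hex : ∃ r, ∀ d ∈ CAlgX.minorIdeal M r, a * d = 0 := ⟨m, fun d hd => ha d hd⟩
    obtain ⟨r, hr⟩ : ∃ r, Nat.find hex = r + 1 := Nat.exists_eq_succ_of_ne_zero fun h0 => ha0 (by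
      have := Nat.find_spec hex
      rw [h0] at this
      simpa using this 1 (minorIdeal_zero_eq_top M ▸ Submodule.mem_top))
    have hrm : r < m := by have := Nat.find_min' hex (fun d hd => ha d hd : ∀ d ∈ CAlgX.minorIdeal M m, a * d = 0); omega
    have hspec : ∀ d ∈ CAlgX.minorIdeal M (r + 1), a * d = 0 := hr ▸ Nat.find_spec hex
    obtain ⟨⟨f, g⟩, hfg⟩ : ∃ fg : (Fin r → Fin n) × (Fin r → Fin m), a * (M.submatrix fg.1 fg.2).det ≠ 0 := by
      by_contra hc
      push Not at hc
      refine Nat.find_min hex (m := r) (by omega) fun d hd => ?_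
      induction hd using Submodule.span_induction with
      | zero => exact mul_zero a
      | add x y _ _ hx hy => rw [mul_add, hx, hy, add_zero]
      | smul c x _ hx => rw [smul_eq_mul, mul_left_comm, hx, mul_zero]
      | mem d hd => obtain ⟨fg, rfl⟩ := hd; exact hc fg
    have hg : Function.Injective g := by
      by_contra hg
      obtain ⟨i, j, hij, hne⟩ := Function.not_injective_iff.mp hg
      exact hfg (by rw [Matrix.det_zero_of_column_eq (M := M.submatrix f g) hne fun b => by simp [hij], mul_zero])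
    obtain ⟨c, hc⟩ : ∃ c, c ∉ Set.range g := by
      by_contra hc
      push Not at hc
      have := Fintype.card_le_of_surjective g hc
      simp at this
      omega
    let G : Fin (r + 1) → Fin m := Fin.cons c g
    let w : Fin (r + 1) → R := fun k => a * (-1) ^ (k : ℕ) * (M.submatrix f (G ∘ k.succAbove)).det
    let x : Fin m → R := fun i => ∑ k, if G k = i then w k else 0
    have hx : M.mulVecLin x = 0 := by
      funext i
      have hdet : a * (M.submatrix (Fin.cons i f : Fin (r + 1) → Fin n) G).det = 0 :=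
        hspec _ (Ideal.subset_span ⟨(Fin.cons i f, G), rfl⟩)
      rw [Matrix.det_succ_row_zero, Finset.mul_sum] at hdet
      simp only [Matrix.mulVecLin_apply, Matrix.mulVec, dotProduct, Pi.zero_apply, x, Finset.mul_sum, mul_ite, mul_zero]
      rw [Finset.sum_comm]
      simp only [Finset.sum_ite_eq, Finset.mem_univ, if_true]
      rw [← hdet]
      refine Finset.sum_congr rfl fun k _ => ?_
      have : ((M.submatrix (Fin.cons i f : Fin (r + 1) → Fin n) G).submatrix Fin.succ k.succAbove) =
          M.submatrix f (G ∘ k.succAbove) := by ext p q; simp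
      simp only [this, Matrix.submatrix_apply, Fin.cons_zero, w]
      ring
    have hxc : x c = a * (M.submatrix f g).det := by
      simp only [x]
      rw [Finset.sum_eq_single 0]
      · simp only [G, Fin.cons_zero, if_true, w, Fin.val_zero, pow_zero, mul_one]
        congr 2
      · intro k _ hk
        obtain ⟨k, rfl⟩ := Fin.exists_succ_eq.mpr hk
        rw [if_neg]
        exact fun h => hc ⟨k, by simpa [G] using h⟩
      · simp
    have := h (hx.trans (map_zero M.mulVecLin).symm)
    exact hfg (hxc ▸ congrFun this c)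
  · intro h
    rw [injective_iff_map_eq_zero]
    intro x hx
    funext i
    have : x i ∈ (CAlgX.minorIdeal M m).annihilator := Submodule.mem_annihilator.mpr fun d hd => by
      rw [smul_eq_mul, mul_comm]
      exact congrFun (minorIdeal_smul_eq_zero M hx hd) i
    rwa [h, Ideal.mem_bot] at this

theorem injective_iff_matrixRank [Nontrivial R] (M : Matrix (Fin n) (Fin m) R) :
    Function.Injective M.mulVecLin ↔
      CAlgX.matrixRank M = m ∧ (CAlgX.detIdeal M).annihilator = ⊥ := by
  rw [injective_iff_annihilator_minorIdeal]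
  refine ⟨fun h => ?_, fun ⟨h1, h2⟩ => by rwa [CAlgX.detIdeal, h1] at h2⟩
  have hm : CAlgX.matrixRank M = m := by
    refine IsGreatest.csSup_eq ⟨fun h0 => ?_, fun r hr => not_lt.mp fun hlt => hr (minorIdeal_eq_bot_of_lt M hlt)⟩
    rw [h0, Submodule.annihilator_bot] at h
    exact top_ne_bot h
  exact ⟨hm, by rwa [CAlgX.detIdeal, hm]⟩

theorem exists_leftInverse (M : Matrix (Fin n) (Fin m) R) (h : CAlgX.minorIdeal M m = ⊤) :
    ∃ L : (Fin n → R) →ₗ[R] (Fin m → R), ∀ x, L (M.mulVecLin x) = x := by
  suffices ∀ d ∈ CAlgX.minorIdeal M m, ∃ L : (Fin n → R) →ₗ[R] (Fin m → R), ∀ x, L (M.mulVecLin x) = d • x by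
    obtain ⟨L, hL⟩ := this 1 (h ▸ Submodule.mem_top)
    exact ⟨L, fun x => by rw [hL, one_smul]⟩
  intro d hd
  induction hd using Submodule.span_induction with
  | zero => exact ⟨0, fun x => by simp⟩
  | add a b _ _ ha hb =>
    obtain ⟨L, hL⟩ := ha; obtain ⟨L', hL'⟩ := hb
    exact ⟨L + L', fun x => by rw [LinearMap.add_apply, hL, hL', add_smul]⟩
  | smul r a _ ha =>
    obtain ⟨L, hL⟩ := ha
    exact ⟨r • L, fun x => by rw [LinearMap.smul_apply, hL, smul_eq_mul, mul_smul]⟩
  | mem d hd =>
    obtain ⟨⟨f, g⟩, rfl⟩ := hd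
    by_cases hg : Function.Injective g
    · let e := Equiv.ofBijective g (Finite.injective_iff_bijective.mp hg)
      refine ⟨LinearMap.funLeft R R e.symm ∘ₗ (M.submatrix f g).adjugate.mulVecLin ∘ₗ LinearMap.funLeft R R f,
        fun x => ?_⟩
      have h0 : (LinearMap.funLeft R R f) (M.mulVecLin x) = M.submatrix f g *ᵥ (x ∘ g) := by
        funext i
        simp only [LinearMap.funLeft_apply, Matrix.mulVecLin_apply, Matrix.mulVec, dotProduct,
          Matrix.submatrix_apply, Function.comp_apply]
        exact (Fintype.sum_equiv e _ _ fun j => rfl).symm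
      funext i
      obtain ⟨j, rfl⟩ := e.surjective i
      simp only [LinearMap.comp_apply, h0, LinearMap.funLeft_apply, e.symm_apply_apply]
      show ((M.submatrix f g).adjugate *ᵥ (M.submatrix f g *ᵥ (x ∘ g))) j = _
      rw [Matrix.mulVec_mulVec, Matrix.adjugate_mul, Matrix.smul_mulVec, Matrix.one_mulVec]
      rfl
    · obtain ⟨i, j, hij, hne⟩ := Function.not_injective_iff.mp hg
      refine ⟨0, fun x => ?_⟩
      show (0 : Fin m → R) = (M.submatrix f g).det • x
      rw [Matrix.det_zero_of_column_eq (M := M.submatrix f g) hne fun b => by simp [hij], zero_smul]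

variable (hP : ∀ I : Ideal R, I.FG → I ≠ ⊤ → I.annihilator ≠ ⊥)
include hP

theorem exists_leftInverse_of_injective (φ : (Fin m → R) →ₗ[R] (Fin n → R)) (h : Function.Injective φ) :
    ∃ L : (Fin n → R) →ₗ[R] (Fin m → R), L ∘ₗ φ = LinearMap.id := by
  classical
  have hφ : (LinearMap.toMatrix' φ).mulVecLin = φ := Matrix.toLin'_toMatrix' φ
  have h' := (injective_iff_annihilator_minorIdeal (LinearMap.toMatrix' φ)).mp (by rwa [hφ])
  have htop : CAlgX.minorIdeal (LinearMap.toMatrix' φ) m = ⊤ := by
    by_contra hne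
    exact hP _ (Submodule.fg_span (Set.finite_range _)) hne h'
  obtain ⟨L, hL⟩ := exists_leftInverse _ htop
  exact ⟨L, LinearMap.ext fun x => by simpa [hφ] using hL x⟩

theorem rTensor_injective_finsupp {α β : Type u} (v : (α →₀ R) →ₗ[R] (β →₀ R)) (hv : Function.Injective v)
    (Q : Type u) [AddCommGroup Q] [Module R Q] : Function.Injective (v.rTensor Q) := by
  classical
  rw [injective_iff_map_eq_zero]
  intro z hz
  obtain ⟨s, z', rfl⟩ : ∃ (s : Finset α) (z' : (↥(Finsupp.supported R R (s : Set α))) ⊗[R] Q),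
      (Finsupp.supported R R (s : Set α)).subtype.rTensor Q z' = z := by
    clear hz
    induction z using TensorProduct.induction_on with
    | zero => exact ⟨∅, 0, map_zero _⟩
    | tmul x q => exact ⟨x.support, (⟨x, by simp [Finsupp.mem_supported]⟩ : Finsupp.supported R R _) ⊗ₜ q, rfl⟩
    | add a b ha hb =>
      obtain ⟨s, a', rfl⟩ := ha
      obtain ⟨t, b', rfl⟩ := hb
      refine ⟨s ∪ t, (Submodule.inclusion (Finsupp.supported_mono (by simp))).rTensor Q a' +
        (Submodule.inclusion (Finsupp.supported_mono (by simp))).rTensor Q b', ?_⟩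
      rw [map_add, ← LinearMap.comp_apply, ← LinearMap.comp_apply, ← LinearMap.rTensor_comp, ← LinearMap.rTensor_comp,
        Submodule.subtype_comp_inclusion, Submodule.subtype_comp_inclusion]
  let e : (Fin s.card → R) ≃ₗ[R] Finsupp.supported R R (s : Set α) :=
    (LinearEquiv.funCongrLeft R R s.equivFin) ≪≫ₗ (Finsupp.linearEquivFunOnFinite R R _).symm ≪≫ₗ
      (Finsupp.supportedEquivFinsupp (s : Set α)).symm
  let t : Finset β := s.biUnion fun i => (v (Finsupp.single i 1)).support
  have ht : ∀ x : Finsupp.supported R R (s : Set α), v x ∈ Finsupp.supported R R (t : Set β) := by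
    rintro ⟨x, hx⟩
    rw [Finsupp.supported_eq_span_single] at hx
    refine (Submodule.map_span_le v _ _).mpr ?_ (Submodule.mem_map_of_mem hx)
    rintro _ ⟨i, hi, rfl⟩
    rw [Finsupp.mem_supported]
    exact fun b hb => Finset.mem_biUnion.mpr ⟨i, hi, hb⟩
  let e' : (Fin t.card → R) ≃ₗ[R] Finsupp.supported R R (t : Set β) :=
    (LinearEquiv.funCongrLeft R R t.equivFin) ≪≫ₗ (Finsupp.linearEquivFunOnFinite R R _).symm ≪≫ₗ
      (Finsupp.supportedEquivFinsupp (t : Set β)).symm
  let φ : (Fin s.card → R) →ₗ[R] (Fin t.card → R) :=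
    e'.symm.toLinearMap ∘ₗ (v ∘ₗ (Finsupp.supported R R (s : Set α)).subtype).codRestrict _ ht ∘ₗ e.toLinearMap
  obtain ⟨L, hL⟩ := exists_leftInverse_of_injective hP φ (fun a b hab => e.injective (Subtype.ext (hv
    (congrArg Subtype.val (e'.symm.injective hab)))))
  let W : (β →₀ R) →ₗ[R] Finsupp.supported R R (s : Set α) :=
    e.toLinearMap ∘ₗ L ∘ₗ e'.symm.toLinearMap ∘ₗ Finsupp.restrictDom R R (t : Set β)
  have hW : W ∘ₗ v ∘ₗ (Finsupp.supported R R (s : Set α)).subtype = LinearMap.id := by
    refine LinearMap.ext fun x => ?_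
    obtain ⟨y, rfl⟩ := e.surjective x
    have hr : Finsupp.restrictDom R R (t : Set β) (v (e y : α →₀ R)) = ⟨_, ht (e y)⟩ :=
      LinearMap.congr_fun (Finsupp.restrictDom_comp_subtype (t : Set β)) ⟨_, ht (e y)⟩
    show e (L (e'.symm (Finsupp.restrictDom R R (t : Set β) (v (e y : α →₀ R))))) = e y
    rw [hr]
    exact congrArg e (LinearMap.congr_fun hL y)
  have : ((W ∘ₗ v ∘ₗ (Finsupp.supported R R (s : Set α)).subtype).rTensor Q) z' = 0 := by
    simp only [LinearMap.rTensor_comp, LinearMap.comp_apply, hz, map_zero]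
  rw [hW, LinearMap.rTensor_id, LinearMap.id_apply] at this
  rw [this, map_zero]

theorem universallyInjective_of_injective {N M : Type u} [AddCommGroup N] [Module R N] [Module.Projective R N]
    [AddCommGroup M] [Module R M] [Module.Projective R M] (u : N →ₗ[R] M) (hu : Function.Injective u) :
    CAlgX.UniversallyInjective R u := by
  classical
  intro Q _ _
  obtain ⟨iN, hN⟩ := Module.projective_def'.mp (inferInstance : Module.Projective R N)
  obtain ⟨iM, hM⟩ := Module.projective_def'.mp (inferInstance : Module.Projective R M)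
  let p := Finsupp.linearCombination R (id : N → N)
  let v : (N →₀ R) →ₗ[R] ((M ⊕ N) →₀ R) :=
    (Finsupp.sumFinsuppLEquivProdFinsupp R).symm.toLinearMap ∘ₗ ((iM ∘ₗ u ∘ₗ p).prod (LinearMap.id - iN ∘ₗ p))
  have hiM : Function.Injective iM := Function.LeftInverse.injective (g := Finsupp.linearCombination R id)
    (LinearMap.congr_fun hM)
  have hv : Function.Injective v := by
    rw [injective_iff_map_eq_zero]
    intro x hx
    have hx' := (LinearEquiv.map_eq_zero_iff (Finsupp.sumFinsuppLEquivProdFinsupp R).symm).mp hx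
    rw [LinearMap.prod_apply, Prod.mk_eq_zero] at hx'
    have hp : p x = 0 := hu (hiM (by simpa using hx'.1))
    simpa [hp] using hx'.2
  rw [injective_iff_map_eq_zero]
  intro z hz
  have hpi : p ∘ₗ iN = LinearMap.id := hN
  have hcomp : v ∘ₗ iN = ((Finsupp.sumFinsuppLEquivProdFinsupp R).symm.toLinearMap ∘ₗ
      LinearMap.inl R _ _ ∘ₗ iM) ∘ₗ u := by
    refine LinearMap.ext fun x => ?_
    have hx : p (iN x) = x := LinearMap.congr_fun hpi x
    simp [v, hx]
  have h1 : (v.rTensor Q) (iN.rTensor Q z) = 0 := by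
    rw [← LinearMap.comp_apply, ← LinearMap.rTensor_comp, hcomp, LinearMap.rTensor_comp, LinearMap.comp_apply, hz, map_zero]
  have h2 : iN.rTensor Q z = 0 := rTensor_injective_finsupp hP v hv Q (h1.trans (map_zero _).symm)
  have := congrArg (p.rTensor Q) h2
  rwa [← LinearMap.comp_apply, ← LinearMap.rTensor_comp, hpi, LinearMap.rTensor_id, map_zero] at this

end Groth.Agent.CAlgBasics
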