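import Mathlib

/-! Artin–Rees for a three term complex: the homology of the quotient systems. -/

namespace Groth.Agent.CAlgBasics

universe u v w

theorem exists_le_map_of_inf {A : Type u} [CommRing A] [IsNoetherianRing A] (I : Ideal A) {L M : Type*}
    [AddCommGroup L] [Module A L] [AddCommGroup M] [Module A M] [Module.Finite A M] (β : L →ₗ[A] M) :
    ∃ k : ℕ, ∀ n, (I ^ (n + k) • ⊤ : Submodule A M) ⊓ LinearMap.range β ≤ (I ^ n • ⊤ : Submodule A L).map β := by
  obtain ⟨k, hk⟩ := Ideal.exists_pow_inf_eq_pow_smul I (LinearMap.range β)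
  refine ⟨k, fun n => ?_⟩
  rw [hk (n + k) (Nat.le_add_left k n), Nat.add_sub_cancel, Submodule.map_smul'', Submodule.map_top]
  exact Submodule.smul_mono le_rfl inf_le_right

theorem artinRees_homology {A : Type u} [CommRing A] [IsNoetherianRing A] (I : Ideal A)
    {K L M : Type*} [AddCommGroup K] [Module A K] [AddCommGroup L] [Module A L] [Module.Finite A L]
    [AddCommGroup M] [Module A M] [Module.Finite A M] (α : K →ₗ[A] L) (β : L →ₗ[A] M)
    (hαβ : β ∘ₗ α = 0) :
    ∃ c : ℕ, 0 < c ∧ ∀ n : ℕ,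
      (∀ y ∈ (I ^ (n + c) • ⊤ : Submodule A M).comap β,
        ∃ z ∈ LinearMap.ker β, y - z ∈ LinearMap.range α ⊔ (I ^ n • ⊤ : Submodule A L)) ∧
      (∀ z ∈ LinearMap.ker β, z ∈ LinearMap.range α ⊔ (I ^ n • ⊤ : Submodule A L) →
        ∀ a ∈ I ^ c, a • z ∈ LinearMap.range α ⊔ I ^ n • LinearMap.ker β) ∧
      (∀ y ∈ (I ^ n • ⊤ : Submodule A M).comap β, ∀ a ∈ I ^ c,
        ∃ z ∈ LinearMap.ker β, a • y - z ∈ LinearMap.range α ⊔ (I ^ n • ⊤ : Submodule A L)) := by
  obtain ⟨k, hk⟩ := exists_le_map_of_inf I β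
  obtain ⟨k', hk'⟩ := exists_le_map_of_inf I (LinearMap.ker β).subtype
  set c := k + k' + 1
  have main : ∀ n, ∀ y, β y ∈ (I ^ (n + c) • ⊤ : Submodule A M) →
      ∃ z ∈ LinearMap.ker β, y - z ∈ LinearMap.range α ⊔ (I ^ n • ⊤ : Submodule A L) := by
    intro n y hy
    obtain ⟨w, hw, hwy⟩ := hk n
      ⟨Submodule.smul_mono_left (Ideal.pow_le_pow_right (by omega)) hy, LinearMap.mem_range_self β y⟩
    refine ⟨y - w, ?_, ?_⟩
    · rw [LinearMap.mem_ker, map_sub, hwy, sub_self]
    · rw [sub_sub_cancel]; exact Submodule.mem_sup_right hw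
  refine ⟨c, by omega, fun n => ⟨main n, fun z hz hz' a ha => ?_, fun y hy a ha => ?_⟩⟩
  · obtain ⟨_, ⟨x, rfl⟩, w, hw, rfl⟩ := Submodule.mem_sup.1 hz'
    have hw0 : w ∈ LinearMap.ker β := by
      have h1 : β (α x) = 0 := LinearMap.congr_fun hαβ x
      rwa [LinearMap.mem_ker, map_add, h1, zero_add, ← LinearMap.mem_ker] at hz
    rw [smul_add, ← map_smul]
    refine add_mem (Submodule.mem_sup_left (LinearMap.mem_range_self α _)) (Submodule.mem_sup_right ?_)
    rcases le_or_gt k' n with hn | hn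
    · obtain ⟨v, hv, hvw⟩ := hk' (n - k')
        ⟨by rwa [Nat.sub_add_cancel hn], by rw [Submodule.range_subtype]; exact hw0⟩
      have h2 : w ∈ I ^ (n - k') • LinearMap.ker β := by
        have h3 := Submodule.mem_map_of_mem (f := (LinearMap.ker β).subtype) hv
        rw [Submodule.map_smul'', Submodule.map_top, Submodule.range_subtype, hvw] at h3
        exact h3
      have h4 : a • w ∈ (I ^ c * I ^ (n - k')) • LinearMap.ker β := by
        rw [Submodule.mul_smul]; exact Submodule.smul_mem_smul ha h2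
      rw [← pow_add] at h4
      exact Submodule.smul_mono_left (Ideal.pow_le_pow_right (by omega)) h4
    · exact Submodule.smul_mem_smul (Ideal.pow_le_pow_right (by omega) ha) hw0
  · refine main n _ ?_
    rw [map_smul, Nat.add_comm, pow_add, Submodule.mul_smul]
    exact Submodule.smul_mem_smul ha hy

/-- A homomorphism modulo a high power of `I` agrees modulo `I` with an honest one. -/
theorem exists_hom_congr {A : Type u} [CommRing A] [IsNoetherianRing A] (I : Ideal A)
    (M : Type v) (N : Type v) [AddCommGroup M] [Module A M] [Module.Finite A M] [AddCommGroup N] [Module A N]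
    [Module.Finite A N] :
    ∃ c : ℕ, ∀ φ : (M ⧸ (I ^ (1 + c) • ⊤ : Submodule A M)) →ₗ[A] N ⧸ (I ^ (1 + c) • ⊤ : Submodule A N),
      Function.Surjective φ → ∃ h : M →ₗ[A] N, LinearMap.range h ⊔ (I • ⊤ : Submodule A N) = ⊤ := by
  classical
  obtain ⟨q, π, hπ⟩ := Module.Finite.exists_fin' A M
  obtain ⟨r, ρ, hρ⟩ : ∃ (r : ℕ) (ρ : (Fin r → A) →ₗ[A] (Fin q → A)), LinearMap.range ρ = LinearMap.ker π := by
    obtain ⟨r, ρ, hρ⟩ := Module.Finite.exists_fin' A (LinearMap.ker π)
    exact ⟨r, (LinearMap.ker π).subtype ∘ₗ ρ, by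
      rw [LinearMap.range_comp, LinearMap.range_eq_top.2 hρ, Submodule.map_top, Submodule.range_subtype]⟩
  let β : (Fin q → N) →ₗ[A] (Fin r → N) :=
    LinearMap.pi fun j => ∑ i, ρ (Pi.single j 1) i • LinearMap.proj i
  obtain ⟨c, -, hc⟩ := artinRees_homology I (0 : A →ₗ[A] Fin q → N) β (LinearMap.comp_zero _)
  refine ⟨c, fun φ hφ => ?_⟩
  choose y hy using fun i : Fin q => Submodule.mkQ_surjective (I ^ (1 + c) • ⊤ : Submodule A N)
    (φ (Submodule.Quotient.mk (π (Pi.single i 1))))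
  have hlin : ∀ v : Fin q → A, Submodule.mkQ (I ^ (1 + c) • ⊤ : Submodule A N) (∑ i, v i • y i) =
      φ (Submodule.Quotient.mk (π v)) := by
    intro v
    rw [map_sum]
    conv_rhs => rw [show v = ∑ i, v i • (Pi.single i (1 : A) : Fin q → A) from pi_eq_sum_univ' v, map_sum,
      ← Submodule.mkQ_apply, map_sum, map_sum]
    exact Finset.sum_congr rfl fun i _ => by rw [map_smul, map_smul, map_smul, map_smul, hy]; rfl
  have hβy : β y ∈ (I ^ (1 + c) • ⊤ : Submodule A (Fin r → N)) := by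
    have hcomp : ∀ j, β y j ∈ (I ^ (1 + c) • ⊤ : Submodule A N) := by
      intro j
      have h0 : π (ρ (Pi.single j 1)) = 0 := hρ.le (LinearMap.mem_range_self ρ _)
      have := hlin (ρ (Pi.single j 1))
      rw [h0, Submodule.Quotient.mk_zero, map_zero, Submodule.mkQ_apply, Submodule.Quotient.mk_eq_zero] at this
      simpa [β] using this
    rw [← Finset.univ_sum_single (β y)]
    refine Submodule.sum_mem _ fun j _ => ?_
    have h1 := Submodule.mem_map_of_mem (f := LinearMap.single A (fun _ : Fin r => N) j) (hcomp j)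
    rw [Submodule.map_smul''] at h1
    exact Submodule.smul_mono le_rfl le_top h1
  obtain ⟨z, hz, hyz⟩ := (hc 1).1 y hβy
  rw [LinearMap.range_zero, bot_sup_eq, pow_one] at hyz
  let Z : (Fin q → A) →ₗ[A] N := Fintype.linearCombination A z
  have hle : LinearMap.ker π ≤ LinearMap.ker Z := by
    rw [← hρ]
    rintro _ ⟨w, rfl⟩
    rw [LinearMap.mem_ker]
    have hZρ : Z ∘ₗ ρ = 0 := LinearMap.pi_ext' fun j => LinearMap.ext_ring (by
      have := congrFun (LinearMap.mem_ker.1 hz) j
      simpa [β, Z, Fintype.linearCombination_apply] using this)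
    exact LinearMap.congr_fun hZρ w
  let h : M →ₗ[A] N :=
    Submodule.liftQ _ Z hle ∘ₗ (π.quotKerEquivOfSurjective hπ).symm.toLinearMap
  have hh : ∀ v, h (π v) = ∑ i, v i • z i := fun v => by
    simp [h, Z, Fintype.linearCombination_apply]
  refine ⟨h, eq_top_iff.2 fun n _ => ?_⟩
  obtain ⟨m, hm⟩ := hφ (Submodule.mkQ _ n)
  obtain ⟨m, rfl⟩ := Submodule.mkQ_surjective _ m
  obtain ⟨v, rfl⟩ := hπ m
  have h1 : n - ∑ i, v i • y i ∈ (I ^ (1 + c) • ⊤ : Submodule A N) := by
    rw [← Submodule.Quotient.eq]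
    exact hm.symm.trans (hlin v).symm
  have h2 : ∑ i, v i • y i - ∑ i, v i • z i ∈ (I • ⊤ : Submodule A N) := by
    rw [← Finset.sum_sub_distrib]
    refine Submodule.sum_mem _ fun i _ => ?_
    rw [← smul_sub]
    refine Submodule.smul_mem _ _ ?_
    have h4 := Submodule.mem_map_of_mem (f := (LinearMap.proj i : (Fin q → N) →ₗ[A] N)) hyz
    rw [Submodule.map_smul''] at h4
    exact Submodule.smul_mono le_rfl le_top h4
  refine Submodule.mem_sup.2 ⟨h (π v), LinearMap.mem_range_self h _, n - h (π v), ?_, by abel⟩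
  rw [hh, show n - ∑ i, v i • z i = (n - ∑ i, v i • y i) + (∑ i, v i • y i - ∑ i, v i • z i) by abel]
  exact add_mem (Submodule.smul_mono_left (Ideal.pow_le_self (by omega)) h1) h2

end Groth.Agent.CAlgBasics
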