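import Mathlib

/-! The determinant of `P(u)` only depends on the characteristic polynomial of `u`. -/

namespace Groth.Agent.CAlgBasics

open Polynomial Matrix

universe u

theorem det_aeval_eq_of_monic : ∀ (d : ℕ) (k : Type u) [CommRing k] {ι κ : Type} [Fintype ι]
    [DecidableEq ι] [Fintype κ] [DecidableEq κ] (A : Matrix ι ι k) (B : Matrix κ κ k),
    A.charpoly = B.charpoly → Fintype.card ι = Fintype.card κ →
    ∀ P : k[X], P.Monic → P.natDegree = d → (aeval A P).det = (aeval B P).det := by
  intro d
  induction d with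
  | zero =>
    intro k _ ι κ _ _ _ _ A B _ _ P hP hd
    rw [Polynomial.Monic.natDegree_eq_zero hP |>.mp hd]
    simp
  | succ d ih =>
    intro k _ ι κ _ _ _ _ A B h hcard P hP hd
    haveI : Nontrivial k := by
      by_contra hk
      rw [not_nontrivial_iff_subsingleton] at hk
      rw [Subsingleton.elim P 0, natDegree_zero] at hd
      omega
    let k' := AdjoinRoot P
    let φ := algebraMap k k'
    have hinj : Function.Injective φ := by
      refine (injective_iff_map_eq_zero _).mpr fun r hr => ?_
      rw [show φ r = AdjoinRoot.mk P (C r) from rfl, AdjoinRoot.mk_eq_zero] at hr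
      by_contra hne
      have := (Polynomial.Monic.not_dvd_of_natDegree_lt hP (C_ne_zero.mpr hne) (by rw [natDegree_C]; omega))
      exact this hr
    haveI : Nontrivial k' := hinj.nontrivial
    apply hinj
    rw [RingHom.map_det, RingHom.map_det]
    have hmap : ∀ {μ : Type} [Fintype μ] [DecidableEq μ] (C' : Matrix μ μ k),
        φ.mapMatrix (aeval C' P) = aeval (φ.mapMatrix C') (P.map φ) := by
      intro μ _ _ C'
      rw [aeval_map_algebraMap]
      exact (aeval_algHom_apply (Algebra.ofId k k').mapMatrix C' P).symm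
    rw [hmap, hmap]
    obtain ⟨Q, hQ⟩ : (X - C (AdjoinRoot.root P)) ∣ P.map φ := by
      rw [dvd_iff_isRoot]; exact AdjoinRoot.isRoot_root P
    have hQm : Q.Monic := Monic.of_mul_monic_left (monic_X_sub_C _) (hQ ▸ hP.map φ)
    have hQd : Q.natDegree = d := by
      have := congrArg natDegree hQ
      rw [hP.natDegree_map, hd, (monic_X_sub_C _).natDegree_mul hQm, natDegree_X_sub_C] at this
      omega
    have hcp : (φ.mapMatrix A).charpoly = (φ.mapMatrix B).charpoly := by
      simp only [RingHom.mapMatrix_apply, Matrix.charpoly_map, h]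
    rw [hQ, map_mul, map_mul, det_mul, det_mul, ih k' _ _ hcp hcard Q hQm hQd]
    congr 1
    have heval : ∀ {μ : Type} [Fintype μ] [DecidableEq μ] (C' : Matrix μ μ k'),
        (aeval C' (X - C (AdjoinRoot.root P))).det =
          (-1) ^ Fintype.card μ * C'.charpoly.eval (AdjoinRoot.root P) := by
      intro μ _ _ C'
      rw [Matrix.eval_charpoly, ← det_neg, map_sub, aeval_X, aeval_C, Algebra.algebraMap_eq_smul_one]
      congr 1
      ext i j
      by_cases hij : i = j <;> simp [Matrix.one_apply, Matrix.scalar_apply, hij]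
    rw [heval, heval, hcp, hcard]

theorem det_aeval_eq_of_charpoly_eq {k : Type u} [CommRing k] {ι κ : Type} [Fintype ι]
    [DecidableEq ι] [Fintype κ] [DecidableEq κ] (A : Matrix ι ι k) (B : Matrix κ κ k)
    (h : A.charpoly = B.charpoly) (hcard : Fintype.card ι = Fintype.card κ) (P : k[X]) :
    (aeval A P).det = (aeval B P).det := by
  nontriviality k
  let Q : k[X][X] := X ^ (P.natDegree + 1) + C X * P.map C
  have hQ : Q.Monic := by
    refine monic_X_pow_add ?_
    refine lt_of_le_of_lt (degree_mul_le _ _) ?_
    refine lt_of_le_of_lt (add_le_add degree_C_le (degree_map_le)) ?_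
    rw [zero_add]
    exact lt_of_le_of_lt degree_le_natDegree (WithBot.coe_lt_coe.mpr (Nat.lt_succ_self _))
  have hcp : ((C : k →+* k[X]).mapMatrix A).charpoly = ((C : k →+* k[X]).mapMatrix B).charpoly := by
    simp only [RingHom.mapMatrix_apply, Matrix.charpoly_map, h]
  have key := det_aeval_eq_of_monic Q.natDegree k[X] _ _ hcp hcard Q hQ rfl
  have hexp : ∀ {μ : Type} [Fintype μ] [DecidableEq μ] (C' : Matrix μ μ k),
      aeval ((C : k →+* k[X]).mapMatrix C') Q =
        (X : k[X]) • (aeval C' P).map C + (C' ^ (P.natDegree + 1)).map C := by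
    intro μ _ _ C'
    simp only [Q, map_add, map_pow, map_mul, aeval_X, aeval_C, Algebra.algebraMap_eq_smul_one,
      smul_one_mul]
    rw [add_comm]
    congr 1
    · congr 1
      rw [← Polynomial.algebraMap_eq, aeval_map_algebraMap]
      exact aeval_algHom_apply (Algebra.ofId k k[X]).mapMatrix C' P
    · rw [← map_pow]; rfl
  rw [hexp, hexp] at key
  have := congrArg (coeff · (Fintype.card ι)) key
  rwa [coeff_det_X_add_C_card, hcard, coeff_det_X_add_C_card] at this

theorem charpoly_leftMulMatrix_powerBasis' {k : Type u} [CommRing k] [Nontrivial k] {g : k[X]} (hg : g.Monic) :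
    (Algebra.leftMulMatrix (AdjoinRoot.powerBasis' hg).basis (AdjoinRoot.root g)).charpoly = g := by
  set b := (AdjoinRoot.powerBasis' hg).basis
  set M := Algebra.leftMulMatrix b (AdjoinRoot.root g)
  have h0 : aeval (AdjoinRoot.root g) M.charpoly = 0 := by
    refine Algebra.leftMulMatrix_injective b ?_
    rw [map_zero, ← aeval_algHom_apply, Matrix.aeval_self_charpoly]
  have hdvd : g ∣ M.charpoly := by rwa [AdjoinRoot.aeval_eq, AdjoinRoot.mk_eq_zero] at h0
  refine eq_of_monic_of_dvd_of_natDegree_le hg M.charpoly_monic hdvd ?_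
  rw [Matrix.charpoly_natDegree_eq_dim, Fintype.card_fin, AdjoinRoot.powerBasis'_dim]

end Groth.Agent.CAlgBasics
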