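import Mathlib

/-! Factorisations through projective modules. -/

namespace Groth.Agent.CAlgBasics

universe u

/-- A map out of a finite module which factors through a projective module factors through a finite
projective one. -/
theorem exists_factor_finite_projective (R : Type u) [CommRing R] {M N : Type u} [AddCommGroup M]
    [Module R M] [Module.Finite R M] [AddCommGroup N] [Module R N] (φ : M →ₗ[R] N)
    (h : ∃ (P : Type u) (_ : AddCommGroup P) (_ : Module R P) (_ : Module.Projective R P) (f : M →ₗ[R] P)
      (g : P →ₗ[R] N), g ∘ₗ f = φ) :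
    ∃ (P : Type u) (_ : AddCommGroup P) (_ : Module R P) (_ : Module.Projective R P) (_ : Module.Finite R P)
      (f : M →ₗ[R] P) (g : P →ₗ[R] N), g ∘ₗ f = φ := by
  classical
  obtain ⟨P, _, _, _, f, g, rfl⟩ := h
  obtain ⟨s, hs⟩ := Module.projective_def'.mp (inferInstance : Module.Projective R P)
  obtain ⟨k, x, hx⟩ := Module.Finite.exists_fin (R := R) (M := M)
  let T : Finset P := Finset.univ.biUnion fun i => (s (f (x i))).support
  have hT : ∀ m, s (f m) ∈ Finsupp.supported R R (T : Set P) := by
    intro m
    have hm : m ∈ Submodule.span R (Set.range x) := hx ▸ Submodule.mem_top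
    induction hm using Submodule.span_induction with
    | mem y hy =>
      obtain ⟨i, rfl⟩ := hy
      intro p hp
      exact Finset.mem_biUnion.mpr ⟨i, Finset.mem_univ i, hp⟩
    | zero => rw [map_zero, map_zero]; exact zero_mem _
    | add a b _ _ ha hb => rw [map_add, map_add]; exact add_mem ha hb
    | smul r a _ ha => rw [map_smul, map_smul]; exact Submodule.smul_mem _ _ ha
  refine ⟨(T : Set P) →₀ R, inferInstance, inferInstance, inferInstance, inferInstance,
    (Finsupp.supportedEquivFinsupp (T : Set P)).toLinearMap ∘ₗ (s ∘ₗ f).codRestrict _ hT,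
    g ∘ₗ Finsupp.linearCombination R id ∘ₗ (Finsupp.supported R R (T : Set P)).subtype ∘ₗ
      (Finsupp.supportedEquivFinsupp (T : Set P)).symm.toLinearMap, LinearMap.ext fun m => ?_⟩
  simp only [LinearMap.comp_apply, LinearEquiv.coe_coe, LinearEquiv.symm_apply_apply]
  exact congrArg g (LinearMap.congr_fun hs (f m))

end Groth.Agent.CAlgBasics
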