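import Mathlib

/-!
Flatness descends along finite injective maps of Noetherian rings (Ferrand).

The induction is on the ideals `J` of `R` with `JS ∩ R = J`. For such `J` we use flatness of `M/JM` over
`R/J` in the form: tensoring with `M` keeps injective maps between `R`-modules killed by `J` injective.
-/

namespace Groth.Agent.CAlgBasics.FiniteInjFlat

open TensorProduct LinearMap

universe u

variable {R : Type u} [CommRing R]

/-- Flatness of `M/JM` over `R/J`, phrased over `R`. -/
def FlatMod (J : Ideal R) (M : Type u) [AddCommGroup M] [Module R M] : Prop :=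
  ∀ (N N' : Type u) [AddCommGroup N] [Module R N] [AddCommGroup N'] [Module R N'] (f : N →ₗ[R] N'),
    Function.Injective f → (∀ r ∈ J, ∀ x : N, r • x = 0) → (∀ r ∈ J, ∀ x : N', r • x = 0) →
      Function.Injective (f.rTensor M)

variable {S : Type u} [CommRing S] [Algebra R S] {M : Type u} [AddCommGroup M] [Module R M]

/-- Tensoring over `R` with `M` keeps `S`-linear injections injective when `S ⊗ M` is `S`-flat. -/
theorem injective_rTensor [Module.Flat S (S ⊗[R] M)] {A B : Type u} [AddCommGroup A] [Module R A]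
    [Module S A] [IsScalarTower R S A] [AddCommGroup B] [Module R B] [Module S B] [IsScalarTower R S B]
    (f : A →ₗ[S] B) (hf : Function.Injective f) :
    Function.Injective ((f.restrictScalars R).rTensor M) := by
  let eA := AlgebraTensorModule.cancelBaseChange R S S A M
  let eB := AlgebraTensorModule.cancelBaseChange R S S B M
  have h : ((f.restrictScalars R).rTensor M : A ⊗[R] M → B ⊗[R] M) ∘ eA =
      eB ∘ (f.rTensor (S ⊗[R] M)) := by
    funext x
    induction x using TensorProduct.induction_on with
    | zero => simp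
    | add x y hx hy => simp only [Function.comp_apply, map_add] at hx hy ⊢; rw [hx, hy]
    | tmul a y =>
      induction y using TensorProduct.induction_on with
      | zero => simp
      | tmul s m => simp [eA, eB]
      | add y z hy hz => simp only [Function.comp_apply, tmul_add, map_add] at hy hz ⊢; rw [hy, hz]
  have h2 : Function.Injective (((f.restrictScalars R).rTensor M : A ⊗[R] M → B ⊗[R] M) ∘ eA) := by
    rw [h]; exact eB.injective.comp (Module.Flat.rTensor_preserves_injective_linearMap f hf)
  intro a b hab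
  obtain ⟨a, rfl⟩ := eA.surjective a
  obtain ⟨b, rfl⟩ := eA.surjective b
  rw [h2 hab]

/-- The map `L → LS`. -/
def toMap (S : Type u) [CommRing S] [Algebra R S] (L : Ideal R) :
    L →ₗ[R] (L.map (algebraMap R S) : Ideal S) where
  toFun a := ⟨algebraMap R S a, Ideal.mem_map_of_mem _ a.2⟩
  map_add' a b := Subtype.ext (map_add _ _ _)
  map_smul' r a := Subtype.ext (by simp [Algebra.smul_def])

theorem rTensor_toMap (L : Ideal R) (x : L ⊗[R] M) :
    ((L.map (algebraMap R S)).subtype.restrictScalars R).rTensor M ((toMap S L).rTensor M x) =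
      (Algebra.linearMap R S).rTensor M (L.subtype.rTensor M x) := by
  rw [← rTensor_comp_apply, ← rTensor_comp_apply]
  rfl

/-- The non-domain case. -/
theorem flat_of_mul_eq_zero (hinj : Function.Injective (algebraMap R S)) [Module.Flat S (S ⊗[R] M)]
    (hQ : ∀ J : Ideal R, (J.map (algebraMap R S)).comap (algebraMap R S) = J → J ≠ ⊥ → FlatMod J M)
    {a b : R} (ha : a ≠ 0) (hb : b ≠ 0) (hab : a * b = 0) : Module.Flat R M := by
  rw [Module.Flat.iff_rTensor_injective']
  intro L
  set J := ((Ideal.span {a}).map (algebraMap R S)).comap (algebraMap R S)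
  set K := ((Ideal.span {b}).map (algebraMap R S)).comap (algebraMap R S)
  have hJ : FlatMod J M := hQ J (congrArg (Ideal.comap (algebraMap R S)) (Ideal.map_comap_map _ _)) fun h => ha <| by
    have : a ∈ J := Ideal.le_comap_map (Ideal.mem_span_singleton_self a)
    rwa [h] at this
  have hK : FlatMod K M := hQ K (congrArg (Ideal.comap (algebraMap R S)) (Ideal.map_comap_map _ _)) fun h => hb <| by
    have : b ∈ K := Ideal.le_comap_map (Ideal.mem_span_singleton_self b)
    rwa [h] at this
  have hkill : ∀ r ∈ K, ∀ y ∈ (Ideal.span {a}).map (algebraMap R S), algebraMap R S r * y = 0 := by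
    intro r hr y hy
    have := Ideal.mul_mem_mul (Ideal.mem_comap.1 hr) hy
    rwa [← Ideal.map_mul, Ideal.span_singleton_mul_span_singleton, mul_comm b a, hab,
      Ideal.span_singleton_zero, Ideal.map_bot, Ideal.mem_bot] at this
  rw [injective_iff_map_eq_zero]
  intro x hx
  let p : L →ₗ[R] Submodule.map (Submodule.mkQ J) L :=
    (Submodule.mkQ J ∘ₗ L.subtype).codRestrict _ fun l => Submodule.mem_map_of_mem l.2
  have hp : Function.Surjective p := by rintro ⟨_, l, hl, rfl⟩; exact ⟨⟨l, hl⟩, rfl⟩
  let L' : Ideal R := L ⊓ J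
  let inc : L' →ₗ[R] L := Submodule.inclusion inf_le_left
  have hex : Function.Exact inc p := by
    intro l
    constructor
    · intro h
      have : Submodule.mkQ J (l : R) = 0 := congrArg Subtype.val h
      exact ⟨⟨l, l.2, (Submodule.Quotient.mk_eq_zero J).1 this⟩, rfl⟩
    · rintro ⟨w, rfl⟩
      exact Subtype.ext ((Submodule.Quotient.mk_eq_zero J).2 w.2.2)
  have hpx : p.rTensor M x = 0 := by
    refine hJ _ _ (Submodule.map (Submodule.mkQ J) L).subtype Subtype.val_injective ?_ ?_
      (a₁ := p.rTensor M x) (a₂ := 0) ?_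
    · intro r hr y
      refine Subtype.ext ?_
      obtain ⟨y, rfl⟩ := hp y
      change r • Submodule.mkQ J (y : R) = 0
      rw [← map_smul, Submodule.mkQ_apply, Submodule.Quotient.mk_eq_zero]
      exact J.mul_mem_right _ hr
    · intro r hr y
      obtain ⟨y, rfl⟩ := Submodule.Quotient.mk_surjective _ y
      rw [← Submodule.Quotient.mk_smul, Submodule.Quotient.mk_eq_zero]
      exact J.mul_mem_right _ hr
    · rw [map_zero, ← rTensor_comp_apply,
        show (Submodule.map (Submodule.mkQ J) L).subtype ∘ₗ p = Submodule.mkQ J ∘ₗ L.subtype from rfl,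
        rTensor_comp_apply, hx, map_zero]
  obtain ⟨y, rfl⟩ := (rTensor_exact M hex hp x).1 hpx
  suffices y = 0 by rw [this, map_zero]
  have hy : L'.subtype.rTensor M y = 0 := by
    rw [← hx, ← rTensor_comp_apply]; rfl
  have hle : L'.map (algebraMap R S) ≤ (Ideal.span {a}).map (algebraMap R S) :=
    Ideal.map_le_iff_le_comap.2 inf_le_right
  have hinj' : Function.Injective (toMap S L') := fun u v h =>
    Subtype.ext (hinj (congrArg Subtype.val h))
  refine hK _ _ (toMap S L') hinj' ?_ ?_ (a₁ := y) (a₂ := 0) ?_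
  · intro r hr u
    refine Subtype.ext (hinj ?_)
    rw [Submodule.coe_smul, smul_eq_mul, map_mul, hkill r hr _ (hle (Ideal.mem_map_of_mem _ u.2))]
    simp
  · intro r hr u
    refine Subtype.ext ?_
    simp [Algebra.smul_def, hkill r hr _ (hle u.2)]
  · apply injective_rTensor (R := R) (M := M) (L'.map (algebraMap R S)).subtype Subtype.val_injective
    rw [map_zero, map_zero, rTensor_toMap, hy, map_zero]

/-- The domain case. -/
theorem flat_of_isDomain [IsDomain R] [IsNoetherianRing R] [IsDomain S] [Module.Finite R S]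
    (hinj : Function.Injective (algebraMap R S)) [Module.Flat S (S ⊗[R] M)]
    (hQ : ∀ J : Ideal R, (J.map (algebraMap R S)).comap (algebraMap R S) = J → J ≠ ⊥ → FlatMod J M) :
    Module.Flat R M := by
  classical
  -- an `R`-linear `φ : S → R` with `φ 1 = c ≠ 0`
  obtain ⟨φ, hc⟩ : ∃ φ : S →ₗ[R] R, φ 1 ≠ 0 := by
    let K := FractionRing R
    let ι : S →ₗ[R] LocalizedModule (nonZeroDivisors R) S := LocalizedModule.mkLinearMap _ S
    have h1 : ι 1 ≠ 0 := fun h => by
      obtain ⟨⟨r, hr⟩, hr1⟩ := (IsLocalizedModule.eq_zero_iff (nonZeroDivisors R) ι).1 h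
      exact nonZeroDivisors.ne_zero hr (hinj (by simpa [Algebra.smul_def] using hr1))
    obtain ⟨ψ, hψ⟩ := Module.Projective.exists_dual_eq_one K h1
    let g : S →ₗ[R] K := ψ.restrictScalars R ∘ₗ ι
    obtain ⟨s, hs⟩ := (inferInstance : Module.Finite R S).fg_top
    obtain ⟨⟨b, hb⟩, hbs⟩ := IsLocalization.exist_integer_multiples_of_finset (nonZeroDivisors R) (s.image g)
    have hrange : ∀ x : S, b • g x ∈ LinearMap.range (Algebra.linearMap R K) := by
      intro x
      have hx : x ∈ Submodule.span R (s : Set S) := hs ▸ trivial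
      induction hx using Submodule.span_induction with
      | mem y hy => exact hbs _ (Finset.mem_image_of_mem g hy)
      | zero => simp
      | add u v _ _ hu hv => rw [map_add, smul_add]; exact add_mem hu hv
      | smul r u _ hu => rw [map_smul, smul_comm]; exact Submodule.smul_mem _ r hu
    let e := LinearEquiv.ofInjective (Algebra.linearMap R K) (IsFractionRing.injective R K)
    refine ⟨e.symm.toLinearMap ∘ₗ (b • g).codRestrict _ hrange, fun h => ?_⟩
    have h0 : ((b • g).codRestrict (LinearMap.range (Algebra.linearMap R K)) hrange) 1 = 0 :=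
      e.symm.map_eq_zero_iff.1 h
    have : b • g 1 = 0 := congrArg Subtype.val h0
    rw [show g 1 = 1 from hψ, Algebra.smul_def, mul_one, map_eq_zero_iff _ (IsFractionRing.injective R K)] at this
    exact nonZeroDivisors.ne_zero hb this
  set c := φ 1
  have hφ : ∀ r : R, φ (algebraMap R S r) = r * c := fun r => by
    rw [Algebra.algebraMap_eq_smul_one, map_smul, smul_eq_mul]
  let J : ℕ → Ideal R := fun n => ((Ideal.span {c ^ (n + 1)}).map (algebraMap R S)).comap (algebraMap R S)
  have hJ : ∀ n, FlatMod (J n) M := fun n => hQ _ (congrArg (Ideal.comap (algebraMap R S)) (Ideal.map_comap_map _ _)) fun h => by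
    have : c ^ (n + 1) ∈ J n := Ideal.le_comap_map (Ideal.mem_span_singleton_self _)
    rw [h] at this
    exact pow_ne_zero _ hc this
  have hJc : ∀ n, J n ≤ Ideal.span {c ^ n} := by
    intro n r hr
    rw [Ideal.mem_comap, Ideal.map_span, Set.image_singleton, Ideal.mem_span_singleton] at hr
    obtain ⟨t, ht⟩ := hr
    have := congrArg φ ht
    rw [hφ, ← Algebra.smul_def, map_smul, smul_eq_mul, pow_succ, mul_right_comm] at this
    exact Ideal.mem_span_singleton.2 ⟨φ t, mul_right_cancel₀ hc this⟩
  -- `R ⊗ M → S ⊗ M` has no `c`-torsion in its kernel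
  have hreg : IsSMulRegular (S ⊗[R] M) (algebraMap R S c) :=
    Module.Flat.isSMulRegular_of_isRegular
      (isRegular_iff_ne_zero.2 fun h => hc (hinj (h.trans (map_zero _).symm)))
  have hnat : ∀ z : R ⊗[R] M, φ.rTensor M ((Algebra.linearMap R S).rTensor M z) = c • z := by
    intro z
    rw [← rTensor_comp_apply, show φ ∘ₗ Algebra.linearMap R S = c • LinearMap.id from
      LinearMap.ext fun r => by simp [hφ, mul_comm], rTensor_smul, LinearMap.smul_apply, rTensor_id_apply]
  have htors : ∀ z : R ⊗[R] M, c • z = 0 → z = 0 := by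
    intro z hz
    have h1 : (Algebra.linearMap R S).rTensor M z = 0 := hreg <| by
      change algebraMap R S c • _ = algebraMap R S c • 0
      rw [smul_zero, algebraMap_smul, ← map_smul, hz, map_zero]
    -- `z` comes from `J 1 ⊗ M`
    let q : R →ₗ[R] R ⧸ J 1 := Submodule.mkQ (J 1)
    let j : (R ⧸ J 1) →ₗ[R] S ⧸ (Ideal.span {c ^ 2}).map (algebraMap R S) :=
      Submodule.liftQ (J 1) ((Ideal.Quotient.mkₐ R _).toLinearMap ∘ₗ Algebra.linearMap R S)
        fun r hr => Ideal.Quotient.eq_zero_iff_mem.2 hr
    have hj : Function.Injective j := by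
      rw [injective_iff_map_eq_zero]
      intro y hy
      obtain ⟨r, rfl⟩ := Submodule.Quotient.mk_surjective _ y
      exact (Submodule.Quotient.mk_eq_zero _).2
        ((Ideal.Quotient.eq_zero_iff_mem (I := (Ideal.span {c ^ 2}).map (algebraMap R S))).1 hy)
    have h2 : q.rTensor M z = 0 := by
      refine hJ 1 _ _ j hj ?_ ?_ (a₁ := q.rTensor M z) (a₂ := 0) ?_
      · intro r hr y
        obtain ⟨y, rfl⟩ := Submodule.Quotient.mk_surjective _ y
        rw [← Submodule.Quotient.mk_smul, Submodule.Quotient.mk_eq_zero]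
        exact (J 1).mul_mem_right _ hr
      · intro r hr y
        obtain ⟨y, rfl⟩ := Ideal.Quotient.mk_surjective y
        rw [Algebra.smul_def, IsScalarTower.algebraMap_apply R S, Ideal.Quotient.algebraMap_eq, ← map_mul,
          Ideal.Quotient.eq_zero_iff_mem]
        exact Ideal.mul_mem_right _ _ hr
      · rw [map_zero, ← rTensor_comp_apply, show j ∘ₗ q = (Ideal.Quotient.mkₐ R _).toLinearMap ∘ₗ
          Algebra.linearMap R S from LinearMap.ext fun _ => rfl, rTensor_comp_apply, h1, map_zero]
    have hexq : Function.Exact (J 1).subtype q := LinearMap.exact_subtype_mkQ _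
    obtain ⟨w, rfl⟩ := (rTensor_exact M hexq (Submodule.mkQ_surjective _) z).1 h2
    have hw : ∃ y : R ⊗[R] M, (J 1).subtype.rTensor M w = c • y := by
      clear hz h1 h2
      induction w using TensorProduct.induction_on with
      | zero => exact ⟨0, by simp⟩
      | tmul r m =>
        obtain ⟨t, ht⟩ := Ideal.mem_span_singleton.1 (hJc 1 r.2)
        exact ⟨t ⊗ₜ m, by rw [rTensor_tmul, Submodule.subtype_apply, ht, pow_one, ← smul_eq_mul, smul_tmul']⟩
      | add u v hu hv =>
        obtain ⟨y₁, h₁⟩ := hu; obtain ⟨y₂, h₂⟩ := hv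
        exact ⟨y₁ + y₂, by rw [map_add, h₁, h₂, smul_add]⟩
    obtain ⟨y, hy⟩ := hw
    rw [hy] at hz ⊢
    have h3 : (Algebra.linearMap R S).rTensor M y = 0 := hreg <| hreg <| by
      change algebraMap R S c • algebraMap R S c • _ = algebraMap R S c • algebraMap R S c • (0 : S ⊗[R] M)
      rw [smul_zero, smul_zero, algebraMap_smul, algebraMap_smul, ← map_smul, ← map_smul, hz, map_zero]
    rw [← hnat, h3, map_zero]
  rw [Module.Flat.iff_rTensor_injective']
  intro L
  let μ := L.subtype.rTensor M
  -- `c` kills the kernel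
  have hker : ∀ x, μ x = 0 → c • x = 0 := by
    intro x hx
    have hL : ∀ y : (L.map (algebraMap R S) : Ideal S), φ y ∈ L := by
      rintro ⟨y, hy⟩
      suffices ∀ t : S, φ (t * y) ∈ L by simpa using this 1
      induction hy using Submodule.span_induction with
      | mem y hy =>
        obtain ⟨l, hl, rfl⟩ := hy
        intro t
        rw [mul_comm, ← Algebra.smul_def, map_smul]
        exact L.mul_mem_right _ hl
      | zero => simp
      | add u v _ _ hu hv => intro t; rw [mul_add, map_add]; exact add_mem (hu t) (hv t)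
      | smul s u _ hu => intro t; rw [smul_eq_mul, ← mul_assoc]; exact hu _
    let φL : (L.map (algebraMap R S) : Ideal S) →ₗ[R] L :=
      (φ ∘ₗ (L.map (algebraMap R S)).subtype.restrictScalars R).codRestrict L hL
    have h0 : (toMap S L).rTensor M x = 0 := by
      apply injective_rTensor (R := R) (M := M) (L.map (algebraMap R S)).subtype Subtype.val_injective
      rw [map_zero, rTensor_toMap, hx, map_zero]
    have : φL ∘ₗ toMap S L = c • LinearMap.id := LinearMap.ext fun l => Subtype.ext <| by
      change φ (algebraMap R S l) = c * l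
      rw [hφ, mul_comm]
    have h' : (φL ∘ₗ toMap S L).rTensor M x = 0 := by rw [rTensor_comp_apply, h0, map_zero]
    rwa [this, rTensor_smul, LinearMap.smul_apply, rTensor_id_apply] at h'
  -- `L ∩ (c ^ n) ⊆ c L`
  obtain ⟨k, hk⟩ := Ideal.exists_pow_inf_eq_pow_smul (Ideal.span {c}) (L : Submodule R R)
  have hAR : L ⊓ J (k + 1) ≤ Ideal.span {c} * L := by
    rintro r ⟨hr, hr'⟩
    have h1 : r ∈ Ideal.span {c} ^ (k + 1) • (⊤ : Submodule R R) ⊓ L :=
      ⟨by rw [smul_eq_mul, Ideal.mul_top, Ideal.span_singleton_pow]; exact hJc (k + 1) hr', hr⟩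
    rw [hk (k + 1) (Nat.le_succ k), Nat.add_sub_cancel_left, pow_one, smul_eq_mul] at h1
    exact Ideal.mul_mono_right inf_le_right h1
  rw [injective_iff_map_eq_zero]
  intro x hx
  let p : L →ₗ[R] Submodule.map (Submodule.mkQ (J (k + 1))) L :=
    (Submodule.mkQ (J (k + 1)) ∘ₗ L.subtype).codRestrict _ fun l => Submodule.mem_map_of_mem l.2
  have hp : Function.Surjective p := by rintro ⟨_, l, hl, rfl⟩; exact ⟨⟨l, hl⟩, rfl⟩
  let inc : (L ⊓ J (k + 1) : Ideal R) →ₗ[R] L := Submodule.inclusion inf_le_left
  have hex : Function.Exact inc p := by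
    intro l
    constructor
    · intro h
      have : Submodule.mkQ (J (k + 1)) (l : R) = 0 := congrArg Subtype.val h
      exact ⟨⟨l, l.2, (Submodule.Quotient.mk_eq_zero _).1 this⟩, rfl⟩
    · rintro ⟨w, rfl⟩
      exact Subtype.ext ((Submodule.Quotient.mk_eq_zero _).2 w.2.2)
  have hpx : p.rTensor M x = 0 := by
    refine hJ (k + 1) _ _ (Submodule.map (Submodule.mkQ (J (k + 1))) L).subtype Subtype.val_injective ?_ ?_
      (a₁ := p.rTensor M x) (a₂ := 0) ?_
    · intro r hr y
      refine Subtype.ext ?_
      obtain ⟨y, rfl⟩ := hp y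
      change r • Submodule.mkQ (J (k + 1)) (y : R) = 0
      rw [← map_smul, Submodule.mkQ_apply, Submodule.Quotient.mk_eq_zero]
      exact Ideal.mul_mem_right _ _ hr
    · intro r hr y
      obtain ⟨y, rfl⟩ := Submodule.Quotient.mk_surjective _ y
      rw [← Submodule.Quotient.mk_smul, Submodule.Quotient.mk_eq_zero]
      exact Ideal.mul_mem_right _ _ hr
    · rw [map_zero, ← rTensor_comp_apply,
        show (Submodule.map (Submodule.mkQ (J (k + 1))) L).subtype ∘ₗ p =
          Submodule.mkQ (J (k + 1)) ∘ₗ L.subtype from rfl,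
        rTensor_comp_apply, hx, map_zero]
  obtain ⟨w, rfl⟩ := (rTensor_exact M hex hp x).1 hpx
  obtain ⟨y, hy⟩ : ∃ y : L ⊗[R] M, inc.rTensor M w = c • y := by
    clear hx hpx
    induction w using TensorProduct.induction_on with
    | zero => exact ⟨0, by simp⟩
    | tmul r m =>
      obtain ⟨t, ht, htr⟩ := Ideal.mem_span_singleton_mul.1 (hAR r.2)
      refine ⟨(⟨t, ht⟩ : L) ⊗ₜ m, ?_⟩
      rw [rTensor_tmul, smul_tmul']
      congr 1
      exact Subtype.ext htr.symm
    | add u v hu hv =>
      obtain ⟨y₁, h₁⟩ := hu; obtain ⟨y₂, h₂⟩ := hv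
      exact ⟨y₁ + y₂, by rw [map_add, h₁, h₂, smul_add]⟩
  rw [hy] at hx ⊢
  rw [map_smul] at hx
  exact hker y (htors _ hx)

/-- The inductive step. -/
theorem flat_step [IsNoetherianRing R] [Module.Finite R S]
    (hinj : Function.Injective (algebraMap R S)) [Module.Flat S (S ⊗[R] M)]
    (hQ : ∀ J : Ideal R, (J.map (algebraMap R S)).comap (algebraMap R S) = J → J ≠ ⊥ → FlatMod J M) :
    Module.Flat R M := by
  rcases subsingleton_or_nontrivial R with h | h
  · have : Subsingleton M := Module.subsingleton R M
    infer_instance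
  by_cases hd : ∃ a b : R, a ≠ 0 ∧ b ≠ 0 ∧ a * b = 0
  · obtain ⟨a, b, ha, hb, hab⟩ := hd
    exact flat_of_mul_eq_zero hinj hQ ha hb hab
  have : NoZeroDivisors R := ⟨fun {a b} hab => by
    by_contra h'; push Not at h'; exact hd ⟨a, b, h'.1, h'.2, hab⟩⟩
  have : IsDomain R := NoZeroDivisors.to_isDomain R
  obtain ⟨Q, -, hQp, hQ0⟩ := Ideal.exists_ideal_over_prime_of_isIntegral (⊥ : Ideal R) (⊥ : Ideal S)
    (RingHom.ker_eq_comap_bot (algebraMap R S) ▸ ((RingHom.injective_iff_ker_eq_bot _).1 hinj).le)
  have hinj' : Function.Injective (algebraMap R (S ⧸ Q)) := by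
    rw [injective_iff_map_eq_zero]
    intro r hr
    rw [IsScalarTower.algebraMap_apply R S (S ⧸ Q)] at hr
    have : r ∈ Q.comap (algebraMap R S) := (Ideal.Quotient.eq_zero_iff_mem (I := Q)).1 hr
    rwa [hQ0, Ideal.mem_bot] at this
  have : Module.Flat (S ⧸ Q) ((S ⧸ Q) ⊗[R] M) :=
    Module.Flat.of_linearEquiv (AlgebraTensorModule.cancelBaseChange R S (S ⧸ Q) (S ⧸ Q) M).symm
  refine flat_of_isDomain (S := S ⧸ Q) hinj' fun J hJ hJ0 => hQ J (le_antisymm ?_ Ideal.le_comap_map) hJ0
  refine le_trans (fun r hr => ?_) hJ.le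
  rw [Ideal.mem_comap] at hr ⊢
  rw [IsScalarTower.algebraMap_eq R S (S ⧸ Q), RingHom.comp_apply, ← Ideal.map_map]
  exact Ideal.mem_map_of_mem _ hr

omit [CommRing S] [Algebra R S] in
theorem cancel_naturality (I : Ideal R) {N N' : Type u} [AddCommGroup N] [Module R N] [Module (R ⧸ I) N]
    [IsScalarTower R (R ⧸ I) N] [AddCommGroup N'] [Module R N'] [Module (R ⧸ I) N']
    [IsScalarTower R (R ⧸ I) N'] (f : N →ₗ[R ⧸ I] N') (x) :
    AlgebraTensorModule.cancelBaseChange R (R ⧸ I) (R ⧸ I) N' M (f.rTensor ((R ⧸ I) ⊗[R] M) x) =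
      (f.restrictScalars R).rTensor M (AlgebraTensorModule.cancelBaseChange R (R ⧸ I) (R ⧸ I) N M x) := by
  induction x using TensorProduct.induction_on with
  | zero => simp
  | add x y hx hy => simp only [map_add, hx, hy]
  | tmul a y =>
    induction y using TensorProduct.induction_on with
    | zero => simp
    | tmul s m => simp
    | add y z hy hz => simp only [tmul_add, map_add, hy, hz]

theorem flat_of_finite_injective [IsNoetherianRing R] [Module.Finite R S]
    (hinj : Function.Injective (algebraMap R S)) [Module.Flat S (S ⊗[R] M)] : Module.Flat R M := by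
  suffices h : ∀ I : Ideal R, (I.map (algebraMap R S)).comap (algebraMap R S) = I → FlatMod I M by
    rw [Module.Flat.iff_rTensor_injective']
    intro L
    refine h ⊥ ?_ _ _ L.subtype Subtype.val_injective ?_ ?_
    · rw [Ideal.map_bot, ← RingHom.ker_eq_comap_bot]; exact (RingHom.injective_iff_ker_eq_bot _).1 hinj
    · intro r hr x; rw [(Submodule.mem_bot R).1 hr, zero_smul]
    · intro r hr x; rw [(Submodule.mem_bot R).1 hr, zero_smul]
  intro I
  induction I using IsNoetherian.induction with
  | _ I ih =>
  intro hI N N' _ _ _ _ f hf hN hN'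
  let R' := R ⧸ I
  let S' := S ⧸ Ideal.map (algebraMap R S) I
  let M' := R' ⊗[R] M
  let : Algebra R' S' := (Ideal.quotientMap _ (algebraMap R S) (Ideal.le_comap_map)).toAlgebra
  have : IsScalarTower R R' S' := IsScalarTower.of_algebraMap_eq fun r => rfl
  have : Module.Finite R' S' := Module.Finite.of_restrictScalars_finite R R' S'
  have hinj' : Function.Injective (algebraMap R' S') := Ideal.quotientMap_injective' hI.le
  have e : S' ⊗[R] M ≃ₗ[S'] S' ⊗[R'] M' := (AlgebraTensorModule.cancelBaseChange R R' S' S' M).symm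
  have : Module.Flat S' (S' ⊗[R] M) :=
    Module.Flat.of_linearEquiv (AlgebraTensorModule.cancelBaseChange R S S' S' M).symm
  have : Module.Flat S' (S' ⊗[R'] M') := Module.Flat.of_linearEquiv e.symm
  have hflat : Module.Flat R' M' := by
    refine flat_step hinj' fun J' hJ' hJ0 => ?_
    set J := J'.comap (Ideal.Quotient.mk I)
    have hIJ : I < J := by
      refine lt_of_le_of_ne (fun r hr => ?_) fun h => hJ0 ?_
      · rw [Ideal.mem_comap, Ideal.Quotient.eq_zero_iff_mem.2 hr]; exact zero_mem _
      · rw [eq_bot_iff]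
        intro y hy
        obtain ⟨r, rfl⟩ := Ideal.Quotient.mk_surjective y
        have : r ∈ I := h ▸ hy
        exact Ideal.Quotient.eq_zero_iff_mem.2 this
    have hJ : (J.map (algebraMap R S)).comap (algebraMap R S) = J := by
      refine le_antisymm (fun r hr => ?_) Ideal.le_comap_map
      rw [Ideal.mem_comap] at hr ⊢
      rw [← hJ', Ideal.mem_comap]
      have h2 := Ideal.mem_map_of_mem (Ideal.Quotient.mk (Ideal.map (algebraMap R S) I)) hr
      rw [Ideal.map_map] at h2
      have hc : (Ideal.Quotient.mk (Ideal.map (algebraMap R S) I)).comp (algebraMap R S) =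
          (algebraMap R' S').comp (Ideal.Quotient.mk I) := rfl
      rw [hc, ← Ideal.map_map, Ideal.map_comap_of_surjective _ Ideal.Quotient.mk_surjective] at h2
      exact h2
    intro P P' _ _ _ _ g hg hP hP'
    let : Module R P := Module.compHom P (Ideal.Quotient.mk I)
    let : Module R P' := Module.compHom P' (Ideal.Quotient.mk I)
    have : IsScalarTower R R' P := IsScalarTower.of_algebraMap_smul fun _ _ => rfl
    have : IsScalarTower R R' P' := IsScalarTower.of_algebraMap_smul fun _ _ => rfl
    have h1 := ih J hIJ hJ P P' (g.restrictScalars R) hg (fun r hr x => hP _ hr x) (fun r hr x => hP' _ hr x)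
    intro a b hab
    apply (AlgebraTensorModule.cancelBaseChange R R' R' P M).injective
    apply h1
    rw [← cancel_naturality I g a, ← cancel_naturality I g b]
    exact congrArg _ hab
  let : Module R' N := Module.IsTorsionBySet.module (I := I) fun x r => hN r r.2 x
  let : Module R' N' := Module.IsTorsionBySet.module (I := I) fun x r => hN' r r.2 x
  have : IsScalarTower R R' N := IsScalarTower.of_algebraMap_smul fun _ _ => rfl
  have : IsScalarTower R R' N' := IsScalarTower.of_algebraMap_smul fun _ _ => rfl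
  let g : N →ₗ[R'] N' :=
    { toFun := f
      map_add' := map_add f
      map_smul' := fun a x => by
        obtain ⟨r, rfl⟩ := Ideal.Quotient.mk_surjective a
        exact map_smul f r x }
  intro a b hab
  obtain ⟨a, rfl⟩ := (AlgebraTensorModule.cancelBaseChange R R' R' N M).surjective a
  obtain ⟨b, rfl⟩ := (AlgebraTensorModule.cancelBaseChange R R' R' N M).surjective b
  congr 1
  apply Module.Flat.rTensor_preserves_injective_linearMap g (M := M') hf
  apply (AlgebraTensorModule.cancelBaseChange R R' R' N' M).injective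
  rw [cancel_naturality I g a, cancel_naturality I g b]
  exact hab

end Groth.Agent.CAlgBasics.FiniteInjFlat
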