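import Mathlib

/-! Lifting from modules whose reduction modulo an ideal is projective. -/

namespace Groth.Agent.CAlgBasics

open TensorProduct

variable {R : Type*} [CommRing R]

/-- If `P/IP` is projective over `R/I`, maps from `P` lift along surjections of modules killed by `I`. -/
theorem exists_lift_of_projective_mod (I : Ideal R) {P : Type*} [AddCommGroup P] [Module R P]
    (hP : Module.Projective (R ⧸ I) ((R ⧸ I) ⊗[R] P)) {Y X : Type*} [AddCommGroup Y] [Module R Y]
    [AddCommGroup X] [Module R X] (g : Y →ₗ[R] X) (hg : Function.Surjective g)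
    (hY : ∀ r ∈ I, ∀ y : Y, r • y = 0) (h : P →ₗ[R] X) :
    ∃ h' : P →ₗ[R] Y, g.comp h' = h := by
  have hX : ∀ r ∈ I, ∀ x : X, r • x = 0 := fun r hr x => by
    obtain ⟨y, rfl⟩ := hg x
    rw [← map_smul, hY r hr y, map_zero]
  have tY : Module.IsTorsionBySet R Y (I : Set R) := fun y r => hY r r.2 y
  have tX : Module.IsTorsionBySet R X (I : Set R) := fun x r => hX r r.2 x
  letI : Module (R ⧸ I) Y := tY.module
  letI : Module (R ⧸ I) X := tX.module
  haveI : IsScalarTower R (R ⧸ I) Y := tY.isScalarTower
  haveI : IsScalarTower R (R ⧸ I) X := tX.isScalarTower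
  let g' : Y →ₗ[R ⧸ I] X :=
    { toFun := g, map_add' := g.map_add,
      map_smul' := fun c y => by
        obtain ⟨r, rfl⟩ := Ideal.Quotient.mk_surjective c
        exact g.map_smul r y }
  obtain ⟨H, hH⟩ := Module.projective_lifting_property g' (h.liftBaseChange (R ⧸ I)) hg
  refine ⟨(H.restrictScalars R).comp (TensorProduct.mk R (R ⧸ I) P 1), LinearMap.ext fun p => ?_⟩
  have := LinearMap.congr_fun hH ((1 : R ⧸ I) ⊗ₜ[R] p)
  simp only [LinearMap.coe_comp, Function.comp_apply, LinearMap.liftBaseChange_tmul, one_smul] at this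
  exact this

/-- `mkQ` version: vanishing of `I` on `M/IM`. -/
theorem smul_quotient_smul_top_eq_zero (I : Ideal R) {M : Type*} [AddCommGroup M] [Module R M]
    (r : R) (hr : r ∈ I) (y : M ⧸ (I • ⊤ : Submodule R M)) : r • y = 0 := by
  obtain ⟨m, rfl⟩ := Submodule.mkQ_surjective _ y
  rw [← map_smul, Submodule.mkQ_apply, Submodule.Quotient.mk_eq_zero]
  exact Submodule.smul_mem_smul hr Submodule.mem_top

theorem map_smul_top_le (I : Ideal R) {M N : Type*} [AddCommGroup M] [Module R M] [AddCommGroup N]
    [Module R N] (f : M →ₗ[R] N) : (I • ⊤ : Submodule R M) ≤ (I • ⊤ : Submodule R N).comap f := by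
  rw [← Submodule.map_le_iff_le_comap, Submodule.map_smul'']
  exact Submodule.smul_mono le_rfl le_top

/-- If `φ : Q → M` is onto a flat module, `ker φ ⊓ I Q = I (ker φ)`. -/
theorem mem_smul_ker_of_flat {Q M : Type*} [AddCommGroup Q] [Module R Q] [AddCommGroup M] [Module R M]
    [Module.Flat R M] (φ : Q →ₗ[R] M) (hφ : Function.Surjective φ) (I : Ideal R) (x : Q)
    (hx : φ x = 0) (hxI : x ∈ (I • ⊤ : Submodule R Q)) : x ∈ I • LinearMap.ker φ := by
  obtain ⟨t, ht⟩ : ∃ t : I ⊗[R] Q, TensorProduct.lid R Q (I.subtype.rTensor Q t) = x :=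
    Submodule.smul_induction_on hxI (fun r hr z _ => ⟨⟨r, hr⟩ ⊗ₜ z, by simp⟩)
      (fun a b ⟨u, hu⟩ ⟨v, hv⟩ => ⟨u + v, by rw [map_add, map_add, hu, hv]⟩)
  have hnat : ∀ u : I ⊗[R] Q, TensorProduct.lid R M (I.subtype.rTensor M (φ.lTensor I u)) =
      φ (TensorProduct.lid R Q (I.subtype.rTensor Q u)) := by
    intro u
    induction u with
    | zero => simp
    | tmul a b => simp
    | add a b ha hb => simp [ha, hb]
  have h0 : φ.lTensor I t = 0 := by
    apply Module.Flat.rTensor_preserves_injective_linearMap (M := M) I.subtype Subtype.val_injective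
    apply (TensorProduct.lid R M).injective
    rw [hnat, ht, hx, map_zero, map_zero]
  have hex : Function.Exact (LinearMap.ker φ).subtype φ := LinearMap.exact_subtype_ker_map φ
  obtain ⟨t', ht'⟩ := (_root_.lTensor_exact I hex hφ t).mp h0
  rw [← ht, ← ht']
  clear ht' h0 ht
  induction t' with
  | zero => simp
  | tmul a b => simpa using Submodule.smul_mem_smul a.2 b.2
  | add a b ha hb => rw [map_add, map_add, map_add]; exact add_mem ha hb

/-- A flat module which is, modulo a nilpotent ideal, the image of a retract of a projective is projective. -/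
theorem projective_of_retract {F M : Type*} [AddCommGroup F] [Module R F] [Module.Projective R F]
    [AddCommGroup M] [Module R M] [Module.Flat R M] (I : Ideal R) (n : ℕ) (hn : I ^ n = ⊥)
    (π : F →ₗ[R] M) (P : Submodule R F) (r : F →ₗ[R] P) (hr : ∀ x : P, r x = x)
    (h1 : ∀ v, π (r v) - π v ∈ (I • ⊤ : Submodule R M)) (hπ : Function.Surjective π)
    (h2 : ∀ x : P, π x = 0 → (x : F) ∈ (I • ⊤ : Submodule R F)) : Module.Projective R M := by
  haveI : Module.Projective R P := Module.Projective.of_split P.subtype r (LinearMap.ext hr)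
  let φ : P →ₗ[R] M := π.comp P.subtype
  have hle : ⊤ ≤ LinearMap.range φ ⊔ (I • ⊤ : Submodule R M) := by
    intro m _
    obtain ⟨v, rfl⟩ := hπ m
    rw [show π v = π (r v) + -(π (r v) - π v) by abel]
    exact Submodule.add_mem_sup ⟨r v, rfl⟩ (neg_mem (h1 v))
  have hpow : ∀ k, ⊤ ≤ LinearMap.range φ ⊔ (I ^ k • ⊤ : Submodule R M) := by
    intro k
    induction k with
    | zero => simp
    | succ k ih =>
      refine ih.trans (sup_le le_sup_left ?_)
      refine (Submodule.smul_mono le_rfl hle).trans ?_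
      rw [Submodule.smul_sup, pow_succ, Submodule.mul_smul]
      exact sup_le_sup_right Submodule.smul_le_right _
  have hsurj : Function.Surjective φ := by
    rw [← LinearMap.range_eq_top]
    have := hpow n
    rwa [hn, Submodule.bot_smul, sup_bot_eq, top_le_iff] at this
  have hK : LinearMap.ker φ ≤ I • LinearMap.ker φ := fun x hx => by
    have h3 := map_smul_top_le I r (h2 x hx)
    rw [Submodule.mem_comap, hr] at h3
    exact mem_smul_ker_of_flat φ hsurj I x hx h3
  have hK0 : ∀ k, LinearMap.ker φ ≤ I ^ k • LinearMap.ker φ := by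
    intro k
    induction k with
    | zero => simp
    | succ k ih => rw [pow_succ, Submodule.mul_smul]; exact ih.trans (Submodule.smul_mono le_rfl hK)
  refine Module.Projective.of_equiv (LinearEquiv.ofBijective φ ⟨(injective_iff_map_eq_zero φ).mpr fun x hx => ?_, hsurj⟩)
  have := hK0 n (LinearMap.mem_ker.mpr hx)
  rwa [hn, Submodule.bot_smul, Submodule.mem_bot] at this

end Groth.Agent.CAlgBasics
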