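import Mathlib

/-!
Injective on spectra with purely inseparable residue field extensions is the same as: ring maps to fields
are determined by their restriction to the base.
-/

namespace Groth.Agent.CAlgBasics

open TensorProduct Polynomial

universe u

/-- Maps from `S` to fields are determined by their restriction to `R`. -/
def FieldExt (R S : Type u) [CommRing R] [CommRing S] [Algebra R S] : Prop :=
  ∀ (K : Type u) [Field K] (g g' : S →+* K), g.comp (algebraMap R S) = g'.comp (algebraMap R S) → g = g'

theorem isPurelyInseparable_of_fieldExt {F E : Type u} [Field F] [Field E] [Algebra F E]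
    (h : FieldExt F E) : IsPurelyInseparable F E := by
  have halg : Algebra.IsAlgebraic F E := ⟨fun x => by
    by_contra hx
    have hinj : Function.Injective (aeval (R := F) x) := transcendental_iff_injective.1 hx
    let T := E ⊗[F] E
    set d : T := x ⊗ₜ 1 - 1 ⊗ₜ x
    have hd : IsNilpotent d := by
      rw [nilpotent_iff_mem_prime]
      intro P hP
      have heq := h (FractionRing (T ⧸ P))
        ((algebraMap (T ⧸ P) (FractionRing (T ⧸ P))).comp ((Ideal.Quotient.mk P).comp
          (Algebra.TensorProduct.includeLeftRingHom : E →+* T)))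
        ((algebraMap (T ⧸ P) (FractionRing (T ⧸ P))).comp ((Ideal.Quotient.mk P).comp
          (Algebra.TensorProduct.includeRight : E →ₐ[F] T).toRingHom))
        (RingHom.ext fun r => by
          simp only [RingHom.comp_apply, AlgHom.toRingHom_eq_coe, RingHom.coe_coe, AlgHom.commutes]
          rfl)
      rw [← Ideal.Quotient.eq_zero_iff_mem]
      apply IsFractionRing.injective (T ⧸ P) (FractionRing (T ⧸ P))
      rw [map_zero, map_sub, map_sub, sub_eq_zero]
      exact DFunLike.congr_fun heq x
    obtain ⟨n, hn⟩ := hd
    let φ : F[X] ⊗[F] F[X] →ₐ[F] T := Algebra.TensorProduct.map (aeval x) (aeval x)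
    have hφ : Function.Injective φ := by
      have h1 : Function.Injective (LinearMap.rTensor F[X] (aeval (R := F) x).toLinearMap) :=
        Module.Flat.rTensor_preserves_injective_linearMap _ hinj
      have h2 : Function.Injective (LinearMap.lTensor E (aeval (R := F) x).toLinearMap) :=
        Module.Flat.lTensor_preserves_injective_linearMap _ hinj
      have : (φ : F[X] ⊗[F] F[X] → T) = (LinearMap.lTensor E (aeval (R := F) x).toLinearMap) ∘
          (LinearMap.rTensor F[X] (aeval (R := F) x).toLinearMap) := by
        funext z
        induction z using TensorProduct.induction_on with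
        | zero => simp
        | tmul a b => rfl
        | add a b ha hb => simp only [Function.comp_apply, map_add] at ha hb ⊢; rw [ha, hb]
      rw [this]; exact h2.comp h1
    have h0 : ((X : F[X]) ⊗ₜ[F] (1 : F[X]) - 1 ⊗ₜ X) ^ n = 0 := hφ (by
      have e1 : φ ((X : F[X]) ⊗ₜ[F] (1 : F[X])) = x ⊗ₜ[F] (1 : E) := by
        change aeval x (X : F[X]) ⊗ₜ[F] aeval x (1 : F[X]) = _; rw [aeval_X, map_one]
      have e2 : φ ((1 : F[X]) ⊗ₜ[F] (X : F[X])) = (1 : E) ⊗ₜ[F] x := by
        change aeval x (1 : F[X]) ⊗ₜ[F] aeval x (X : F[X]) = _; rw [aeval_X, map_one]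
      rw [map_pow, map_zero, map_sub, e1, e2]
      exact hn)
    let ev : F[X] ⊗[F] F[X] →ₐ[F] F[X] :=
      Algebra.TensorProduct.lift (AlgHom.id F F[X]) (aeval 0) fun _ _ => Commute.all _ _
    have h3 := congrArg ev h0
    rw [map_pow, map_sub, map_zero] at h3
    simp [ev] at h3⟩
  rw [isPurelyInseparable_iff_finSepDegree_eq_one, Field.finSepDegree, Nat.card_eq_one_iff_unique]
  exact ⟨⟨fun a b => AlgHom.coe_ringHom_injective (h _ (a : E →+* AlgebraicClosure E) (b : E →+* AlgebraicClosure E)
    (RingHom.ext fun r => (a.commutes r).trans (b.commutes r).symm))⟩, inferInstance⟩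

theorem fieldExt_of_injective_of_pow_mem {R S : Type u} [CommRing R] [CommRing S] [Algebra R S]
    (hinj : Function.Injective (PrimeSpectrum.comap (algebraMap R S)))
    (hpi : ∀ (q : Ideal S) [q.IsPrime] (x : q.ResidueField), ∃ n : ℕ,
      x ^ (ringExpChar (q.comap (algebraMap R S)).ResidueField) ^ n ∈ Set.range
        (Ideal.ResidueField.map (q.comap (algebraMap R S)) q (algebraMap R S) rfl)) :
    FieldExt R S := by
  intro K _ g g' hg
  have hker : RingHom.ker g = RingHom.ker g' :=
    congrArg PrimeSpectrum.asIdeal (hinj (a₁ := ⟨RingHom.ker g, RingHom.ker_isPrime g⟩)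
      (a₂ := ⟨RingHom.ker g', RingHom.ker_isPrime g'⟩) (PrimeSpectrum.ext (by
        show (RingHom.ker g).comap (algebraMap R S) = (RingHom.ker g').comap (algebraMap R S)
        rw [RingHom.comap_ker, RingHom.comap_ker, hg])))
  set q := RingHom.ker g
  have : q.IsPrime := RingHom.ker_isPrime g
  have hunit : ∀ (k : S →+* K), RingHom.ker k = q → q.primeCompl ≤ (IsUnit.submonoid K).comap k :=
    fun k hk s hs => isUnit_iff_ne_zero.2 fun h0 => hs (hk.le h0)
  let G := Ideal.ResidueField.lift q g le_rfl (hunit g rfl)
  let G' := Ideal.ResidueField.lift q g' hker.le (hunit g' hker.symm)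
  set p := q.comap (algebraMap R S)
  let ψ := Ideal.ResidueField.map p q (algebraMap R S) rfl
  have hGG : G.comp ψ = G'.comp ψ := Ideal.ResidueField.ringHom_ext (RingHom.ext fun r => by
    simp only [RingHom.comp_apply, ψ, Ideal.ResidueField.map_algebraMap, G, G',
      Ideal.ResidueField.lift_algebraMap]
    exact DFunLike.congr_fun hg r)
  have heq : G = G' := RingHom.ext fun z => by
    obtain ⟨n, w, hw⟩ := hpi q z
    have : ExpChar p.ResidueField (ringExpChar p.ResidueField) := inferInstance
    have : ExpChar K (ringExpChar p.ResidueField) :=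
      expChar_of_injective_ringHom (G.comp ψ).injective _
    refine iterateFrobenius_inj K (ringExpChar p.ResidueField) n ?_
    rw [iterateFrobenius_def, iterateFrobenius_def, ← map_pow, ← map_pow, ← hw]
    exact DFunLike.congr_fun hGG w
  refine RingHom.ext fun s => ?_
  have := DFunLike.congr_fun heq (algebraMap S q.ResidueField s)
  simpa [G, G'] using this

theorem injective_comap_of_fieldExt {R S : Type u} [CommRing R] [CommRing S] [Algebra R S]
    (h : FieldExt R S) : Function.Injective (PrimeSpectrum.comap (algebraMap R S)) := by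
  rintro ⟨q, hq⟩ ⟨q', hq'⟩ he
  have he' : q.comap (algebraMap R S) = q'.comap (algebraMap R S) := congrArg PrimeSpectrum.asIdeal he
  set p := q.comap (algebraMap R S)
  let : Algebra p.ResidueField q.ResidueField :=
    (Ideal.ResidueField.map p q (algebraMap R S) rfl).toAlgebra
  let : Algebra p.ResidueField q'.ResidueField :=
    (Ideal.ResidueField.map p q' (algebraMap R S) he').toAlgebra
  have : Nontrivial (q.ResidueField ⊗[p.ResidueField] q'.ResidueField) := inferInstance
  obtain ⟨m, hm⟩ := Ideal.exists_maximal (q.ResidueField ⊗[p.ResidueField] q'.ResidueField)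
  let : Field ((q.ResidueField ⊗[p.ResidueField] q'.ResidueField) ⧸ m) := Ideal.Quotient.field m
  let gl := (Ideal.Quotient.mk m).comp (Algebra.TensorProduct.includeLeftRingHom :
      q.ResidueField →+* q.ResidueField ⊗[p.ResidueField] q'.ResidueField)
  let gr := (Ideal.Quotient.mk m).comp (Algebra.TensorProduct.includeRight :
      q'.ResidueField →ₐ[p.ResidueField] q.ResidueField ⊗[p.ResidueField] q'.ResidueField).toRingHom
  have hgg := h _ (gl.comp (algebraMap S q.ResidueField)) (gr.comp (algebraMap S q'.ResidueField))
    (RingHom.ext fun r => by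
      simp only [RingHom.comp_apply, gl, gr]
      congr 1
      have h1 : algebraMap S q.ResidueField (algebraMap R S r) =
          algebraMap p.ResidueField q.ResidueField (algebraMap R p.ResidueField r) :=
        (Ideal.ResidueField.map_algebraMap (algebraMap R S) (I := p) (J := q) _ r).symm
      have h2 : algebraMap S q'.ResidueField (algebraMap R S r) =
          algebraMap p.ResidueField q'.ResidueField (algebraMap R p.ResidueField r) :=
        (Ideal.ResidueField.map_algebraMap (algebraMap R S) (I := p) (J := q') _ r).symm
      rw [h1, h2, AlgHom.toRingHom_eq_coe, RingHom.coe_coe, AlgHom.commutes]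
      rfl)
  have := congrArg RingHom.ker hgg
  rw [RingHom.ker_comp_of_injective _ gl.injective, RingHom.ker_comp_of_injective _ gr.injective,
    Ideal.ker_algebraMap_residueField, Ideal.ker_algebraMap_residueField] at this
  exact PrimeSpectrum.ext this

theorem pow_mem_of_fieldExt {R S : Type u} [CommRing R] [CommRing S] [Algebra R S] (h : FieldExt R S)
    (q : Ideal S) [q.IsPrime] (x : q.ResidueField) : ∃ n : ℕ,
      x ^ (ringExpChar (q.comap (algebraMap R S)).ResidueField) ^ n ∈ Set.range
        (Ideal.ResidueField.map (q.comap (algebraMap R S)) q (algebraMap R S) rfl) := by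
  set p := q.comap (algebraMap R S)
  let : Algebra p.ResidueField q.ResidueField :=
    (Ideal.ResidueField.map p q (algebraMap R S) rfl).toAlgebra
  have : IsPurelyInseparable p.ResidueField q.ResidueField := by
    refine isPurelyInseparable_of_fieldExt fun K _ g g' hg => Ideal.ResidueField.ringHom_ext (h K _ _ ?_)
    refine RingHom.ext fun r => ?_
    have := DFunLike.congr_fun hg (algebraMap R p.ResidueField r)
    simp only [RingHom.comp_apply, RingHom.algebraMap_toAlgebra] at this
    rwa [Ideal.ResidueField.map_algebraMap] at this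
  exact IsPurelyInseparable.pow_mem p.ResidueField (ringExpChar p.ResidueField) x

end Groth.Agent.CAlgBasics
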